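import Groth.Agent.Lib.AffThick.Mor
import Groth.Agent.Lib.AlgSpace.DescendRep
import Groth.Agent.Lib.AlgSpace.Local
import Groth.Agent.Lib.AlgSpace.Diag
import Groth.Agent.Lib.AlgSpMor.RepDescent
import Groth.Agent.Lib.AlgSpMor.Sep

/-!
# Cartesian squares of sheaves, checked on charts
-/

set_option autoImplicit false

universe u

open CategoryTheory CategoryTheory.Limits AlgebraicGeometry
open AlgSp Groth.Agent.Lib.AlgSpace

namespace Groth.Agent.Lib.AffThick.Pushout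

variable {S : Scheme.{u}}

/-- A square is cartesian if it becomes cartesian over a locally surjective map. -/
theorem isPullback_local {P A B C H P₁ : Sp S} {fst : P ⟶ A} {snd : P ⟶ B} {f : A ⟶ C}
    {g : B ⟶ C} (π : H ⟶ A) [Sheaf.IsLocallySurjective π] {e : P₁ ⟶ P} {p₁ : P₁ ⟶ H}
    (w : fst ≫ f = snd ≫ g) (sq₁ : IsPullback e p₁ fst π)
    (sq₂ : IsPullback p₁ (e ≫ snd) (π ≫ f) g) : IsPullback fst snd f g := by
  have inj : ∀ (T : Over S) (c c' : (yon S).obj T ⟶ P),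
      c ≫ fst = c' ≫ fst → c ≫ snd = c' ≫ snd → c = c' := fun T c c' h₁ h₂ => by
    obtain ⟨T', q, x, hq, hx⟩ := exists_lift_of_isLocallySurjective π (c ≫ fst)
    obtain ⟨y, hy₁, hy₂⟩ : ∃ y, y ≫ e = (yon S).map q ≫ c ∧ y ≫ p₁ = x :=
      ⟨sq₁.lift _ x (by rw [Category.assoc, hx]), sq₁.lift_fst _ _ _, sq₁.lift_snd _ _ _⟩
    obtain ⟨y', hy₁', hy₂'⟩ : ∃ y', y' ≫ e = (yon S).map q ≫ c' ∧ y' ≫ p₁ = x :=
      ⟨sq₁.lift _ x (by rw [Category.assoc, ← h₁, hx]), sq₁.lift_fst _ _ _, sq₁.lift_snd _ _ _⟩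
    have h : y = y' := sq₂.hom_ext (hy₂.trans hy₂'.symm)
      (by rw [reassoc_of% hy₁, reassoc_of% hy₁', h₂])
    have := epi_yon_map q hq
    rw [← cancel_epi ((yon S).map q), ← hy₁, h, hy₁']
  refine isPullback_of_yon w inj fun T a b hab => ?_
  obtain ⟨T', q, x, hq, hx⟩ := exists_lift_of_isLocallySurjective π a
  obtain ⟨y, hy₁, hy₂⟩ : ∃ y, y ≫ p₁ = x ∧ y ≫ e ≫ snd = (yon S).map q ≫ b :=
    ⟨sq₂.lift x _ (by rw [reassoc_of% hx, hab, Category.assoc]), sq₂.lift_fst _ _ _,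
      sq₂.lift_snd _ _ _⟩
  have hy₃ : y ≫ e ≫ fst = (yon S).map q ≫ a := by rw [sq₁.w, reassoc_of% hy₁, hx]
  haveI := isLocallySurjective_yon_map q hq
  have sqT := isPullback_yon (IsPullback.of_hasPullback q q)
  obtain ⟨c, hc⟩ := exists_desc ((yon S).map q) sqT (y ≫ e) (inj _ _ _
    (by simp only [Category.assoc]; rw [hy₃, reassoc_of% sqT.w])
    (by simp only [Category.assoc]; rw [hy₂, reassoc_of% sqT.w]))
  have := epi_yon_map q hq
  exact ⟨c, by rw [← cancel_epi ((yon S).map q), reassoc_of% hc, hy₃],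
    by rw [← cancel_epi ((yon S).map q), reassoc_of% hc, hy₂]⟩

/-- A cartesian map of kernel pairs descends to a cartesian square. -/
theorem exists_desc_cartesian {A B : Sp S} {V P R Q : Over S} {p : (yon S).obj V ⟶ A}
    {π : (yon S).obj P ⟶ B} [Sheaf.IsLocallySurjective p] {r₁ r₂ : R ⟶ V} {q₁ q₂ : Q ⟶ P}
    (hR : IsPullback ((yon S).map r₁) ((yon S).map r₂) p p)
    (hQ : IsPullback ((yon S).map q₁) ((yon S).map q₂) π π) {b : V ⟶ P} {c : R ⟶ Q}
    (h₁ : IsPullback r₁ c b q₁) (h₂ : r₂ ≫ b = c ≫ q₂) :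
    ∃ g : A ⟶ B, IsPullback p ((yon S).map b) g π := by
  obtain ⟨g, hg⟩ := Groth.Agent.Lib.AlgSpace.exists_desc p hR ((yon S).map b ≫ π) (by
    rw [← Functor.map_comp_assoc, ← Functor.map_comp_assoc, h₁.w, h₂, Functor.map_comp_assoc,
      Functor.map_comp_assoc, hQ.w])
  refine ⟨g, isPullback_local p (e := (yon S).map r₂) (p₁ := (yon S).map r₁) hg hR.flip ?_⟩
  rw [hg, ← Functor.map_comp, h₂, Functor.map_comp]
  exact (isPullback_yon h₁).paste_vert hQ

/-- Being a thickening descends along an etale cover. -/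
theorem isThickMor_of_cover {X Y : Sp S} (hY : Representable (Limits.diag Y)) {f : X ⟶ Y}
    {V : Over S} {p : (yon S).obj V ⟶ Y} (hp : RepWith @Etale p) (hps : RepWith @Surjective p)
    {X' : Sp S} {fst : X' ⟶ X} {snd : X' ⟶ (yon S).obj V} (sq : IsPullback fst snd f p)
    (h : IsThickMor snd) : IsThickMor f := by
  have h' := repWith_inf_iff.1 (h : RepWith (@IsClosedImmersion ⊓ @Surjective) snd)
  have := AlgSpMor.Sep.isLocalAtTarget_fppf_isClosedImmersion.{u}
  have := isLocalAtTarget_fppf_surjective.{u}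
  haveI := isLocallySurjective_of_etale hp hps
  have hc : RepWith @IsClosedImmersion f := AlgSpMor.RepDescent.repWith_of_cover _
    (effective_monoLft.mono fun _ _ g (_ : IsClosedImmersion g) =>
      ⟨(inferInstance : Mono g), inferInstance⟩) hY hp hps sq h'.1
  exact repWith_inf_iff.2 ⟨hc, repWith_of_isLocallySurjective
    hc.1 p sq _ h'.2⟩

/-- A map becoming surjective on a thickening of the base is surjective. -/
theorem repWith_surjective_of_thick {X X' : Sp S} {t : X ⟶ X'} (hX' : Representable (Limits.diag X'))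
    (ht : IsThickMor t) {W W' : Over S} {e : (yon S).obj W ⟶ X} {j : W ⟶ W'}
    {q : (yon S).obj W' ⟶ X'} (sq : IsPullback e ((yon S).map j) t q)
    (he : RepWith @Surjective e) : RepWith @Surjective q := by
  refine repWith_of_exists fun T ξ => ?_
  obtain ⟨WT, fst, g, sqT⟩ := exists_isPullback_yon hX' q ξ
  refine ⟨WT, g, (yon S).map fst, sqT, ⟨fun x => ?_⟩⟩
  obtain ⟨T₀, v, η, sqv, hv⟩ := repWith_exists ht ξ
  obtain ⟨W₀, g₀, d, sqd, hg⟩ := repWith_exists he η
  obtain ⟨d, rfl⟩ := (yon S).map_surjective d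
  obtain ⟨l, hl⟩ := (yon S).map_surjective (sqT.lift ((yon S).map (d ≫ j)) ((yon S).map (g₀ ≫ v)) (by
    rw [Functor.map_comp, Functor.map_comp, Category.assoc, ← sq.w, reassoc_of% sqd.w, sqv.w,
      Category.assoc]))
  have hl₂ : l ≫ g = g₀ ≫ v :=
    (yon S).map_injective (by rw [Functor.map_comp, hl, sqT.lift_snd])
  obtain ⟨z, rfl⟩ := hv.2.surj x
  obtain ⟨z, rfl⟩ := hg.surj z
  exact ⟨l.left z, by rw [← Scheme.Hom.comp_apply, ← Over.comp_left, hl₂]; rfl⟩

end Groth.Agent.Lib.AffThick.Pushout
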