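import Groth.Agent.Lib.AffThick.Pushout.Ump
import Groth.Agent.Lib.AffThick.Pushout.Local
import Groth.Agent.Lib.AffThick.EtSite

/-!
# Pushouts of algebraic spaces along thickenings and affine morphisms
-/

set_option autoImplicit false
set_option linter.style.haveILetI false

universe u

open CategoryTheory CategoryTheory.Limits AlgebraicGeometry
open AlgSp Groth.Agent.Lib.AlgSpace

namespace Groth.Agent.Lib.AffThick.Pushout

variable {S : Scheme.{u}}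

/-- A chart gives a cartesian map of kernel pairs. -/
theorem exists_kernel_map {A B : Sp S} {f : A ⟶ B} {V W : Over S} {p : (yon S).obj V ⟶ B}
    {e : (yon S).obj W ⟶ A} {a : W ⟶ V} (sq : IsPullback e ((yon S).map a) f p) {R Q : Over S}
    {r₁ r₂ : R ⟶ V} (hR : IsPullback ((yon S).map r₁) ((yon S).map r₂) p p) {w₁ w₂ : Q ⟶ W}
    (hQ : IsPullback ((yon S).map w₁) ((yon S).map w₂) e e) :
    ∃ k : Q ⟶ R, IsPullback w₁ k a r₁ ∧ IsPullback w₂ k a r₂ := by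
  have hw : (yon S).map (w₁ ≫ a) ≫ p = (yon S).map (w₂ ≫ a) ≫ p := by
    rw [Functor.map_comp_assoc, Functor.map_comp_assoc, ← sq.w, reassoc_of% hQ.w]
  obtain ⟨k, hk⟩ := (yon S).map_surjective (hR.lift _ _ hw)
  have k₁ : (yon S).map k ≫ (yon S).map r₁ = (yon S).map w₁ ≫ (yon S).map a := by
    rw [hk, hR.lift_fst, Functor.map_comp]
  have k₂ : (yon S).map k ≫ (yon S).map r₂ = (yon S).map w₂ ≫ (yon S).map a := by
    rw [hk, hR.lift_snd, Functor.map_comp]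
  refine ⟨k, isPullback_of_yon_map (IsPullback.of_bot ?_ k₁.symm hR),
    isPullback_of_yon_map (IsPullback.of_bot ?_ k₂.symm hR.flip)⟩
  · rw [k₂, ← sq.w]
    exact hQ.paste_vert sq
  · rw [k₁, ← sq.w]
    exact hQ.flip.paste_vert sq

theorem exists_pair_map {A : Sp S} {V R : Over S} {p : (yon S).obj V ⟶ A} {r₁ r₂ : R ⟶ V}
    (hR : IsPullback ((yon S).map r₁) ((yon S).map r₂) p p) {T : Over S} (x y : T ⟶ V)
    (h : (yon S).map x ≫ p = (yon S).map y ≫ p) : ∃ z, z ≫ r₁ = x ∧ z ≫ r₂ = y := by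
  obtain ⟨z, hz⟩ := (yon S).map_surjective (hR.lift _ _ h)
  exact ⟨z, (yon S).map_injective (by rw [Functor.map_comp, hz, hR.lift_fst]),
    (yon S).map_injective (by rw [Functor.map_comp, hz, hR.lift_snd])⟩

theorem pair_ext {A : Sp S} {V R : Over S} {p : (yon S).obj V ⟶ A} {r₁ r₂ : R ⟶ V}
    (hR : IsPullback ((yon S).map r₁) ((yon S).map r₂) p p) {T : Over S} {z z' : T ⟶ R}
    (h₁ : z ≫ r₁ = z' ≫ r₁) (h₂ : z ≫ r₂ = z' ≫ r₂) : z = z' :=
  (yon S).map_injective (hR.hom_ext (by rw [← Functor.map_comp, h₁, Functor.map_comp])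
    (by rw [← Functor.map_comp, h₂, Functor.map_comp]))

/-- An atlas of the pieces glues to an etale equivalence relation presenting the pushout. -/
theorem exists_eqvRel {X X' Y : Sp S} (hX : IsAlgSpace X) (hX' : IsAlgSpace X') (hY : IsAlgSpace Y)
    {t : X ⟶ X'} {f : X ⟶ Y} {XV XV' V P : Over S} {e : (yon S).obj XV ⟶ X}
    {q : (yon S).obj XV' ⟶ X'} {p : (yon S).obj V ⟶ Y} (hp : RepWith @Etale p)
    (hq : RepWith @Etale q) {j : XV ⟶ XV'} {a : XV ⟶ V} {a' : XV' ⟶ P} {b : V ⟶ P}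
    (h : Sq j a a' b) (sqt : IsPullback e ((yon S).map j) t q)
    (sqf : IsPullback e ((yon S).map a) f p) :
    ∃ (R Q R' : Over S) (r₁ r₂ : R ⟶ V) (u₁ u₂ : Q ⟶ XV') (d₁ d₂ : R' ⟶ P) (bR : R ⟶ R')
      (cR : Q ⟶ R'), IsPullback ((yon S).map r₁) ((yon S).map r₂) p p ∧
      IsPullback ((yon S).map u₁) ((yon S).map u₂) q q ∧ IsEtaleEqvRel d₂ d₁ ∧
      IsPullback r₁ bR b d₁ ∧ r₂ ≫ b = bR ≫ d₂ ∧ IsPullback u₁ cR a' d₁ ∧
      u₂ ≫ a' = cR ≫ d₂ := by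
  obtain ⟨R, r₁, r₂, hR⟩ := exists_isPullback_yon hY.diag p p
  obtain ⟨Q, u₁, u₂, hQ'⟩ := exists_isPullback_yon hX'.diag q q
  obtain ⟨QX, w₁, w₂, hQ⟩ := exists_isPullback_yon hX.diag e e
  obtain ⟨aQ, hA₁, hA₂⟩ := exists_kernel_map sqf hR hQ
  obtain ⟨jQ, hJ₁, hJ₂⟩ := exists_kernel_map sqt hQ' hQ
  have : Etale r₁.left := repWith_property hp hR.flip
  have : Etale r₂.left := repWith_property hp hR
  have : Etale u₁.left := repWith_property hq hQ'.flip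
  have : Etale u₂.left := repWith_property hq hQ'
  have := h.closed_b
  have hb : Mono b := (Over.forget S).mono_of_mono_map (inferInstanceAs (Mono b.left))
  obtain ⟨R', cR, bR, hR'⟩ := exists_sq jQ aQ
    (MorphismProperty.of_isPullback (hJ₁.map (Over.forget S)) h.thick_t)
    (MorphismProperty.of_isPullback (P := @IsAffineHom) (hA₁.map (Over.forget S)) h.affine_a)
  let d₁ : R' ⟶ P := hR'.isPushout.desc (u₁ ≫ a') (r₁ ≫ b) (by
    rw [← reassoc_of% hJ₁.w, ← reassoc_of% hA₁.w, h.w])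
  let d₂ : R' ⟶ P := hR'.isPushout.desc (u₂ ≫ a') (r₂ ≫ b) (by
    rw [← reassoc_of% hJ₂.w, ← reassoc_of% hA₂.w, h.w])
  have hc₁ : cR ≫ d₁ = u₁ ≫ a' := hR'.isPushout.inl_desc _ _ _
  have hb₁ : bR ≫ d₁ = r₁ ≫ b := hR'.isPushout.inr_desc _ _ _
  have hc₂ : cR ≫ d₂ = u₂ ≫ a' := hR'.isPushout.inl_desc _ _ _
  have hb₂ : bR ≫ d₂ = r₂ ≫ b := hR'.isPushout.inr_desc _ _ _
  obtain ⟨hd₁, sqb₁, sqc₁⟩ := h.etale hR' hA₁ hJ₁ d₁ hb₁ hc₁
  obtain ⟨hd₂, sqb₂, sqc₂⟩ := h.etale hR' hA₂ hJ₂ d₂ hb₂ hc₂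
  have inj : ∀ (T : Over S) (r r' : T ⟶ R'), r ≫ d₁ = r' ≫ d₁ → r ≫ d₂ = r' ≫ d₂ → r = r' := by
    intro T r r' e₁ e₂
    have := hR'.closed_b
    have := hR'.surjective_b
    have sq₁ := IsPullback.of_hasPullback r bR
    have sq₂ := IsPullback.of_hasPullback (pullback.fst r bR ≫ r') bR
    have hs : Surjective (pullback.fst (pullback.fst r bR ≫ r') bR ≫ pullback.fst r bR).left := by
      have : Surjective (pullback.fst r bR).left :=
        MorphismProperty.of_isPullback (sq₁.map (Over.forget S)).flip hR'.surjective_b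
      have : Surjective (pullback.fst (pullback.fst r bR ≫ r') bR).left :=
        MorphismProperty.of_isPullback (sq₂.map (Over.forget S)).flip hR'.surjective_b
      rw [Over.comp_left]
      infer_instance
    refine hom_ext_over (pullback.fst (pullback.fst r bR ≫ r') bR ≫ pullback.fst r bR) d₁ ?_ e₁
    obtain ⟨x, hx⟩ : ∃ x, x ≫ bR = (pullback.fst (pullback.fst r bR ≫ r') bR ≫
        pullback.fst r bR) ≫ r :=
      ⟨pullback.fst (pullback.fst r bR ≫ r') bR ≫ pullback.snd r bR, by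
        simp only [Category.assoc]; rw [← sq₁.w]⟩
    have hx' : pullback.snd (pullback.fst r bR ≫ r') bR ≫ bR =
        (pullback.fst (pullback.fst r bR ≫ r') bR ≫ pullback.fst r bR) ≫ r' := by
      rw [← sq₂.w, Category.assoc]
    rw [← hx, ← hx', pair_ext hR (z := x) (z' := pullback.snd (pullback.fst r bR ≫ r') bR)
      ((cancel_mono b).1 ?_) ((cancel_mono b).1 ?_)]
    · rw [Category.assoc, Category.assoc, ← hb₁, reassoc_of% hx, reassoc_of% hx', e₁]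
    · rw [Category.assoc, Category.assoc, ← hb₂, reassoc_of% hx, reassoc_of% hx', e₂]
  refine ⟨R, Q, R', r₁, r₂, u₁, u₂, d₁, d₂, bR, cR, hR, hQ', ⟨⟨inj, fun T => ?_⟩, hd₂, hd₁⟩,
    sqb₁, hb₂.symm, sqc₁, hc₂.symm⟩
  refine ⟨fun x => ?_, ?_, ?_⟩
  · obtain ⟨dV, hV₁, hV₂⟩ := exists_pair_map hR (𝟙 V) (𝟙 V) rfl
    obtain ⟨dX, hX₁, hX₂⟩ := exists_pair_map hQ' (𝟙 XV') (𝟙 XV') rfl
    let ε : P ⟶ R' := h.isPushout.desc (dX ≫ cR) (dV ≫ bR) (inj _ _ _
      (by simp only [Category.assoc, hc₁, hb₁, reassoc_of% hX₁, reassoc_of% hV₁, h.w])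
      (by simp only [Category.assoc, hc₂, hb₂, reassoc_of% hX₂, reassoc_of% hV₂, h.w]))
    have ε₁ : ε ≫ d₁ = 𝟙 P := h.isPushout.hom_ext
      (by rw [h.isPushout.inl_desc_assoc, Category.assoc, hc₁, reassoc_of% hX₁, Category.comp_id])
      (by rw [h.isPushout.inr_desc_assoc, Category.assoc, hb₁, reassoc_of% hV₁, Category.comp_id])
    have ε₂ : ε ≫ d₂ = 𝟙 P := h.isPushout.hom_ext
      (by rw [h.isPushout.inl_desc_assoc, Category.assoc, hc₂, reassoc_of% hX₂, Category.comp_id])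
      (by rw [h.isPushout.inr_desc_assoc, Category.assoc, hb₂, reassoc_of% hV₂, Category.comp_id])
    exact ⟨x ≫ ε, by rw [Category.assoc, ε₁, Category.comp_id],
      by rw [Category.assoc, ε₂, Category.comp_id]⟩
  · rintro x y ⟨r, rfl, rfl⟩
    obtain ⟨σV, hV₁, hV₂⟩ := exists_pair_map hR r₂ r₁
      (by rw [hR.w])
    obtain ⟨σX, hX₁, hX₂⟩ := exists_pair_map hQ' u₂ u₁ (by rw [hQ'.w])
    let σ : R' ⟶ R' := hR'.isPushout.desc (σX ≫ cR) (σV ≫ bR) (inj _ _ _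
      (by simp only [Category.assoc, hc₁, hb₁, reassoc_of% hX₁, reassoc_of% hV₁]
          rw [← hc₂, ← hb₂, reassoc_of% hR'.w])
      (by simp only [Category.assoc, hc₂, hb₂, reassoc_of% hX₂, reassoc_of% hV₂]
          rw [← hc₁, ← hb₁, reassoc_of% hR'.w]))
    have σ₁ : σ ≫ d₁ = d₂ := hR'.isPushout.hom_ext
      (by rw [hR'.isPushout.inl_desc_assoc, Category.assoc, hc₁, reassoc_of% hX₁, hc₂])
      (by rw [hR'.isPushout.inr_desc_assoc, Category.assoc, hb₁, reassoc_of% hV₁, hb₂])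
    have σ₂ : σ ≫ d₂ = d₁ := hR'.isPushout.hom_ext
      (by rw [hR'.isPushout.inl_desc_assoc, Category.assoc, hc₂, reassoc_of% hX₂, hc₁])
      (by rw [hR'.isPushout.inr_desc_assoc, Category.assoc, hb₂, reassoc_of% hV₂, hb₁])
    exact ⟨r ≫ σ, by rw [Category.assoc, σ₁], by rw [Category.assoc, σ₂]⟩
  · rintro x y z ⟨r, rfl, rfl⟩ ⟨r', hr', rfl⟩
    have sqP := IsPullback.of_hasPullback d₂ d₁
    have : Etale (pullback.fst d₂ d₁).left :=
      MorphismProperty.of_isPullback (P := @Etale) (sqP.map (Over.forget S)).flip hd₁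
    obtain ⟨X₂, X₂', Y₂, t₂, a₂, a₂', b₂, qX, qX', qY, h₂, sX', sY, -, -⟩ :=
      hR'.exists_baseChange (pullback.fst d₂ d₁)
    obtain ⟨y₂, hy₁, hy₂⟩ : ∃ y₂, y₂ ≫ r₁ = qY ≫ r₂ ∧ y₂ ≫ bR = b₂ ≫ pullback.snd d₂ d₁ :=
      ⟨sqb₁.lift (qY ≫ r₂) (b₂ ≫ pullback.snd d₂ d₁) (by
        rw [Category.assoc, ← hb₂, reassoc_of% sY.w, sqP.w, Category.assoc]),
        sqb₁.lift_fst _ _ _, sqb₁.lift_snd _ _ _⟩
    obtain ⟨y₂', hy₁', hy₂'⟩ : ∃ y₂', y₂' ≫ u₁ = qX' ≫ u₂ ∧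
        y₂' ≫ cR = a₂' ≫ pullback.snd d₂ d₁ :=
      ⟨sqc₁.lift (qX' ≫ u₂) (a₂' ≫ pullback.snd d₂ d₁) (by
        rw [Category.assoc, ← hc₂, reassoc_of% sX'.w, sqP.w, Category.assoc]),
        sqc₁.lift_fst _ _ _, sqc₁.lift_snd _ _ _⟩
    obtain ⟨zV, hz₁, hz₂⟩ := exists_pair_map hR (qY ≫ r₁) (y₂ ≫ r₂) (by
      rw [Functor.map_comp_assoc, hR.w, ← Functor.map_comp_assoc, ← hy₁, Functor.map_comp_assoc,
        hR.w, Functor.map_comp_assoc])
    obtain ⟨zX, hz₁', hz₂'⟩ := exists_pair_map hQ' (qX' ≫ u₁) (y₂' ≫ u₂) (by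
      rw [Functor.map_comp_assoc, hQ'.w, ← Functor.map_comp_assoc, ← hy₁', Functor.map_comp_assoc,
        hQ'.w, Functor.map_comp_assoc])
    have eX₁ : (zX ≫ cR) ≫ d₁ = a₂' ≫ pullback.fst d₂ d₁ ≫ d₁ := by
      rw [Category.assoc, hc₁, reassoc_of% hz₁', ← hc₁, reassoc_of% sX'.w]
    have eX₂ : (zX ≫ cR) ≫ d₂ = a₂' ≫ pullback.snd d₂ d₁ ≫ d₂ := by
      rw [Category.assoc, hc₂, reassoc_of% hz₂', ← hc₂, reassoc_of% hy₂']
    have eY₁ : (zV ≫ bR) ≫ d₁ = b₂ ≫ pullback.fst d₂ d₁ ≫ d₁ := by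
      rw [Category.assoc, hb₁, reassoc_of% hz₁, ← hb₁, reassoc_of% sY.w]
    have eY₂ : (zV ≫ bR) ≫ d₂ = b₂ ≫ pullback.snd d₂ d₁ ≫ d₂ := by
      rw [Category.assoc, hb₂, reassoc_of% hz₂, ← hb₂, reassoc_of% hy₂]
    let κ : pullback d₂ d₁ ⟶ R' := h₂.isPushout.desc (zX ≫ cR) (zV ≫ bR) (inj _ _ _
      (by rw [Category.assoc, eX₁, Category.assoc, eY₁, reassoc_of% h₂.w])
      (by rw [Category.assoc, eX₂, Category.assoc, eY₂, reassoc_of% h₂.w]))
    have κ₁ : κ ≫ d₁ = pullback.fst d₂ d₁ ≫ d₁ := h₂.isPushout.hom_ext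
      (by rw [h₂.isPushout.inl_desc_assoc, eX₁])
      (by rw [h₂.isPushout.inr_desc_assoc, eY₁])
    have κ₂ : κ ≫ d₂ = pullback.snd d₂ d₁ ≫ d₂ := h₂.isPushout.hom_ext
      (by rw [h₂.isPushout.inl_desc_assoc, eX₂])
      (by rw [h₂.isPushout.inr_desc_assoc, eY₂])
    exact ⟨pullback.lift r r' hr'.symm ≫ κ, by rw [Category.assoc, κ₁, pullback.lift_fst_assoc],
      by rw [Category.assoc, κ₂, pullback.lift_snd_assoc]⟩

/-- The pushout built from given atlases of the pieces. -/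
theorem exists_pushout_of_atlas {X X' Y : Space S} (t : X ⟶ X') (ht : IsThickMor t.hom) (f : X ⟶ Y)
    {XV XV' V P : Over S} {e : (yon S).obj XV ⟶ X.obj} {q : (yon S).obj XV' ⟶ X'.obj}
    {p : (yon S).obj V ⟶ Y.obj} (hp : RepWith @Etale p) (hps : RepWith @Surjective p)
    (hq : RepWith @Etale q) (hqs : RepWith @Surjective q) {j : XV ⟶ XV'} {a : XV ⟶ V}
    {a' : XV' ⟶ P} {b : V ⟶ P} (h : Sq j a a' b)
    (sqt : IsPullback e ((yon S).map j) t.hom q) (sqf : IsPullback e ((yon S).map a) f.hom p) :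
    ∃ (Y' : Space S) (f' : X' ⟶ Y') (t' : Y ⟶ Y') (π : (yon S).obj P ⟶ Y'.obj),
      IsPushout t f f' t' ∧ IsThickMor t'.hom ∧ RepWith @Etale π ∧ RepWith @Surjective π ∧
      IsPullback q ((yon S).map a') f'.hom π ∧ IsPullback p ((yon S).map b) t'.hom π := by
  obtain ⟨R, Q, R', r₁, r₂, u₁, u₂, d₁, d₂, bR, cR, hR, hQ, hd, sb, eb, sc, ec⟩ :=
    exists_eqvRel X.property X'.property Y.property hp hq h sqt sqf
  have hπ := isPresentation_quot hd
  haveI := isLocallySurjective_of_etale hp hps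
  haveI := isLocallySurjective_of_etale hq hqs
  obtain ⟨t', sqY⟩ := exists_desc_cartesian hR hπ.isPullback sb eb
  obtain ⟨f', sqX'⟩ := exists_desc_cartesian hQ hπ.isPullback sc ec
  have hH : IsAlgSpace (QuotSh.quot Scheme.fppfPrecoverage d₂ d₁) := isAlgSpace_quot hd
  have heX : RepWith @Etale e ∧ RepWith @Surjective e :=
    ⟨repWith_baseChange sqf.flip hp, repWith_baseChange sqf.flip hps⟩
  have := epi_of_etale heX.1 heX.2
  have w : t.hom ≫ f' = f.hom ≫ t' := by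
    rw [← cancel_epi e, reassoc_of% sqt.w, reassoc_of% sqf.w, sqX'.w, sqY.w,
      ← Functor.map_comp_assoc, ← Functor.map_comp_assoc, h.w]
  let H : Space S := ⟨_, hH⟩
  let fH : X' ⟶ H := ObjectProperty.homMk f'
  let tH : Y ⟶ H := ObjectProperty.homMk t'
  refine ⟨H, fH, tH, quotMap d₂ d₁, ?_,
    isThickMor_of_cover hH.diag hπ.etale hπ.surjective sqY ((repWith_yon_map_iff _ _).2 h.thick_b),
    hπ.etale, hπ.surjective, sqX', sqY⟩
  exact isPushout_of_chart t f fH tH (ObjectProperty.hom_ext _ w) h hπ.etale hπ.surjective sqX' sqY sqt.w sqf.w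

/-- Atlases of the pieces. -/
theorem exists_atlas {X X' Y : Space S} (t : X ⟶ X') (ht : IsThickMor t.hom) (f : X ⟶ Y)
    (hf : IsAffineMor f.hom) {V : Over S} {p : (yon S).obj V ⟶ Y.obj} (hp : RepWith @Etale p)
    (hps : RepWith @Surjective p) :
    ∃ (XV XV' P : Over S) (e : (yon S).obj XV ⟶ X.obj) (q : (yon S).obj XV' ⟶ X'.obj)
      (j : XV ⟶ XV') (a : XV ⟶ V) (a' : XV' ⟶ P) (b : V ⟶ P),
      RepWith @Etale q ∧ RepWith @Surjective q ∧ Sq j a a' b ∧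
      IsPullback e ((yon S).map j) t.hom q ∧ IsPullback e ((yon S).map a) f.hom p := by
  obtain ⟨XV, a, e, sqf, ha⟩ := repWith_exists (AlgSpMor.AffineDescent.isAffineMor_iff.1 hf) p
  have he : RepWith @Etale e := repWith_baseChange sqf.flip hp
  obtain ⟨XV', q, j, hq, sqt⟩ := EtSite.exists_lift X.property X'.property ht e he
  obtain ⟨P, a', b, h⟩ := exists_sq j a (repWith_property ht sqt) ha
  exact ⟨XV, XV', P, e, q, j, a, a', b, hq,
    repWith_surjective_of_thick X'.property.diag ht sqt (repWith_baseChange sqf.flip hps),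
    h, sqt, sqf⟩

/-- Pushouts along thickenings and affine morphisms exist. -/
theorem exists_pushout {X X' Y : Space S} (t : X ⟶ X') (ht : IsThickMor t.hom) (f : X ⟶ Y)
    (hf : IsAffineMor f.hom) :
    ∃ (Y' : Space S) (f' : X' ⟶ Y') (t' : Y ⟶ Y'), IsPushout t f f' t' ∧ IsThickMor t'.hom := by
  obtain ⟨V, p, hp, hps⟩ := Y.property.atlas
  obtain ⟨XV, XV', P, e, q, j, a, a', b, hq, hqs, h, sqt, sqf⟩ := exists_atlas t ht f hf hp hps
  obtain ⟨Y', f', t', -, h₁, h₂, -⟩ := exists_pushout_of_atlas t ht f hp hps hq hqs h sqt sqf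
  exact ⟨Y', f', t', h₁, h₂⟩

/-- Any pushout has the charts glued from atlases of the pieces. -/
theorem exists_chart {X X' Y Y' : Space S} {t : X ⟶ X'} (ht : IsThickMor t.hom) {f : X ⟶ Y}
    {f' : X' ⟶ Y'} {t' : Y ⟶ Y'} (hY' : IsPushout t f f' t')
    {XV XV' V P : Over S} {e : (yon S).obj XV ⟶ X.obj} {q : (yon S).obj XV' ⟶ X'.obj}
    {p : (yon S).obj V ⟶ Y.obj} (hp : RepWith @Etale p) (hps : RepWith @Surjective p)
    (hq : RepWith @Etale q) (hqs : RepWith @Surjective q) {j : XV ⟶ XV'} {a : XV ⟶ V}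
    {a' : XV' ⟶ P} {b : V ⟶ P} (h : Sq j a a' b)
    (sqt : IsPullback e ((yon S).map j) t.hom q) (sqf : IsPullback e ((yon S).map a) f.hom p) :
    ∃ π : (yon S).obj P ⟶ Y'.obj, RepWith @Etale π ∧ RepWith @Surjective π ∧ IsThickMor t'.hom ∧
      IsPullback q ((yon S).map a') f'.hom π ∧ IsPullback p ((yon S).map b) t'.hom π := by
  obtain ⟨H, fH, tH, π, hH, htH, hπ, hπs, sqX', sqY⟩ :=
    exists_pushout_of_atlas t ht f hp hps hq hqs h sqt sqf
  let φ := hH.isoIsPushout _ _ hY'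
  haveI : IsIso φ.hom.hom := inferInstanceAs (IsIso ((ObjectProperty.ι _).map φ.hom))
  have hf' : fH.hom ≫ φ.hom.hom = f'.hom :=
    congrArg (fun k => k.hom) (hH.inl_isoIsPushout_hom _ _ hY')
  have ht' : tH.hom ≫ φ.hom.hom = t'.hom :=
    congrArg (fun k => k.hom) (hH.inr_isoIsPushout_hom _ _ hY')
  refine ⟨π ≫ φ.hom.hom, (repWith_comp_iso_iff _ _ _).2 hπ, (repWith_comp_iso_iff _ _ _).2 hπs,
    ?_, ?_, ?_⟩
  · rw [← ht']
    exact (repWith_comp_iso_iff _ _ _).2 htH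
  · exact sqX'.of_iso (Iso.refl _) (Iso.refl _) (Iso.refl _) (asIso φ.hom.hom) (by simp) (by simp)
      (by simp [hf']) (by simp)
  · exact sqY.of_iso (Iso.refl _) (Iso.refl _) (Iso.refl _) (asIso φ.hom.hom) (by simp) (by simp)
      (by simp [ht']) (by simp)

end Groth.Agent.Lib.AffThick.Pushout
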