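import Groth.Agent.Lib.AffThick.Pushout.Build
import Groth.Agent.Lib.AlgSpMor.LocP
import Groth.Agent.Lib.AlgSpMor.AffineDescent
import Groth.Agent.Lib.Ferrand.Cartesian

/-!
# Maps of pushouts along thickenings are cartesian
-/

set_option autoImplicit false
set_option linter.style.haveILetI false

universe u

open CategoryTheory CategoryTheory.Limits AlgebraicGeometry
open AlgSp Groth.Agent.Lib.AlgSpace

namespace Groth.Agent.Lib.AffThick.Pushout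

variable {S : Scheme.{u}}

/-- A cartesian map of glued charts over a map of pushouts. -/
structure MapChart {X' Y Y' U' V V' : Sp S} (f' : X' ⟶ Y') (t' : Y ⟶ Y') (v : V ⟶ Y) (u' : U' ⟶ X')
    (iV : V ⟶ V') (iU' : U' ⟶ V') (v' : V' ⟶ Y') where
  /-- pieces of the chart of the base -/
  (A A' B P : Over S)
  /-- pieces of the chart of the source -/
  (A₁ A₁' B₁ P₁ : Over S)
  (j : A ⟶ A') (a : A ⟶ B) (a' : A' ⟶ P) (b : B ⟶ P)
  (j₁ : A₁ ⟶ A₁') (a₁ : A₁ ⟶ B₁) (a₁' : A₁' ⟶ P₁) (b₁ : B₁ ⟶ P₁)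
  (n : A₁ ⟶ A) (n' : A₁' ⟶ A') (m : B₁ ⟶ B) (k : P₁ ⟶ P)
  (p : (yon S).obj B ⟶ Y) (q : (yon S).obj A' ⟶ X') (π : (yon S).obj P ⟶ Y')
  (p₁ : (yon S).obj B₁ ⟶ V) (q₁ : (yon S).obj A₁' ⟶ U') (π₁ : (yon S).obj P₁ ⟶ V')
  sq : Sq j a a' b
  sq₁ : Sq j₁ a₁ a₁' b₁
  p_etale : RepWith @Etale p
  p_surjective : RepWith @Surjective p
  q_etale : RepWith @Etale q
  q_surjective : RepWith @Surjective q
  π_etale : RepWith @Etale π
  π_surjective : RepWith @Surjective π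
  p₁_etale : RepWith @Etale p₁
  p₁_surjective : RepWith @Surjective p₁
  q₁_etale : RepWith @Etale q₁
  q₁_surjective : RepWith @Surjective q₁
  π₁_etale : RepWith @Etale π₁
  π₁_surjective : RepWith @Surjective π₁
  sqX' : IsPullback q ((yon S).map a') f' π
  sqY : IsPullback p ((yon S).map b) t' π
  sqU' : IsPullback q₁ ((yon S).map a₁') iU' π₁
  sqV : IsPullback p₁ ((yon S).map b₁) iV π₁
  sqn : IsPullback n j₁ j n'
  sqm : IsPullback n a₁ a m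
  sqn' : IsPullback n' a₁' a' k
  sqm' : IsPullback m b₁ b k
  lft : LocallyOfFiniteType n'.left → LocallyOfFiniteType m.left → LocallyOfFiniteType k.left
  comm_v : p₁ ≫ v = (yon S).map m ≫ p
  comm_u : q₁ ≫ u' = (yon S).map n' ≫ q
  comm_k : π₁ ≫ v' = (yon S).map k ≫ π

/-- Maps of pushouts have cartesian charts. -/
theorem exists_mapChart {X X' Y Y' U U' V V' : Space S}
    (t : X ⟶ X') (ht : IsThickMor t.hom) (f : X ⟶ Y) (hf : IsAffineMor f.hom) (f' : X' ⟶ Y')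
    (t' : Y ⟶ Y') (hY' : IsPushout t f f' t') (v : V ⟶ Y) (u' : U' ⟶ X') (uV : U ⟶ V) (uU' : U ⟶ U')
    (uX : U ⟶ X) (hUV : IsPullback uV.hom uX.hom v.hom f.hom)
    (hUU' : IsPullback uU'.hom uX.hom u'.hom t.hom)
    (iV : V ⟶ V') (iU' : U' ⟶ V') (hV' : IsPushout uV uU' iV iU') (v' : V' ⟶ Y')
    (hv'₁ : iV ≫ v' = v ≫ t') (hv'₂ : iU' ≫ v' = u' ≫ f') :
    Nonempty (MapChart f'.hom t'.hom v.hom u'.hom iV.hom iU'.hom v'.hom) := by
  obtain ⟨B, p, hp, hps⟩ := Y.property.atlas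
  obtain ⟨A, A', P, e, q, j, a, a', b, hq, hqs, h, sqt, sqf⟩ := exists_atlas t ht f hf hp hps
  obtain ⟨π, hπ, hπs, -, sqX', sqY⟩ := exists_chart ht hY' hp hps hq hqs h sqt sqf
  obtain ⟨B₁, p₁, m, hp₁, hp₁s, hm⟩ :=
    AlgSpMor.LocP.exists_chart_over V.property Y.property v.hom hp hps
  have huU' : IsThickMor uU'.hom := repWith_baseChange hUU'.flip ht
  have huV : IsAffineMor uV.hom := AlgSpMor.AffineDescent.isAffineMor_iff.2
    (repWith_baseChange hUV.flip (AlgSpMor.AffineDescent.isAffineMor_iff.1 hf))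
  obtain ⟨A₁, A₁', P₁, e₁, q₁, j₁, a₁, a₁', b₁, hq₁, hq₁s, h₁, sqt₁, sqf₁⟩ :=
    exists_atlas uU' huU' uV huV hp₁ hp₁s
  obtain ⟨π₁, hπ₁, hπ₁s, -, sqU', sqV⟩ :=
    exists_chart huU' hV'.flip hp₁ hp₁s hq₁ hq₁s h₁ sqt₁ sqf₁
  obtain ⟨n, hn⟩ := (yon S).map_surjective (sqf.lift (e₁ ≫ uX.hom) ((yon S).map (a₁ ≫ m)) (by
    rw [Category.assoc, ← hUV.w, reassoc_of% sqf₁.w, hm, Functor.map_comp_assoc]))
  have hn₁ : (yon S).map n ≫ e = e₁ ≫ uX.hom := by rw [hn, sqf.lift_fst]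
  have hn₂ : n ≫ a = a₁ ≫ m := (yon S).map_injective (by rw [Functor.map_comp, hn, sqf.lift_snd])
  have sqm : IsPullback n a₁ a m := isPullback_of_yon_map (IsPullback.of_right
    (h₁₁ := (yon S).map n) (by rw [hn₁, ← hm]; exact sqf₁.paste_horiz hUV.flip)
    (by rw [← Functor.map_comp, hn₂, Functor.map_comp]) sqf)
  obtain ⟨W, ω₁, ω₂, sqW⟩ := exists_isPullback_yon X'.property.diag q (q₁ ≫ u'.hom)
  have : Etale ω₂.left := repWith_property hq sqW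
  obtain ⟨x, hx⟩ := (yon S).map_surjective (sqW.lift ((yon S).map (n ≫ j)) ((yon S).map j₁) (by
    rw [Functor.map_comp_assoc, ← sqt.w, reassoc_of% hn₁, ← reassoc_of% sqt₁.w, hUU'.w]))
  have hx₁ : x ≫ ω₁ = n ≫ j := (yon S).map_injective (by rw [Functor.map_comp, hx, sqW.lift_fst])
  have hx₂ : x ≫ ω₂ = j₁ := (yon S).map_injective (by rw [Functor.map_comp, hx, sqW.lift_snd])
  obtain ⟨l, hl₁, hl₂⟩ := exists_hom_over j₁ h₁.thick_t ω₂ x (𝟙 A₁')
    (by rw [hx₂, Category.comp_id])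
  have hn' : j₁ ≫ (l ≫ ω₁) = n ≫ j := by rw [reassoc_of% hl₁, hx₁]
  have hcu : q₁ ≫ u'.hom = (yon S).map (l ≫ ω₁) ≫ q := by
    rw [Functor.map_comp_assoc, sqW.w, ← Functor.map_comp_assoc, hl₂, CategoryTheory.Functor.map_id,
      Category.id_comp]
  have sqn : IsPullback n j₁ j (l ≫ ω₁) := isPullback_of_yon_map (IsPullback.of_right
    (h₁₁ := (yon S).map n) (by rw [hn₁, ← hcu]; exact sqt₁.paste_horiz hUU'.flip)
    (by rw [← Functor.map_comp, ← hn', Functor.map_comp]) sqt)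
  let k : P₁ ⟶ P := h₁.isPushout.desc ((l ≫ ω₁) ≫ a') (m ≫ b) (by
    rw [← Category.assoc, hn', Category.assoc, h.w, reassoc_of% hn₂])
  have hka : a₁' ≫ k = (l ≫ ω₁) ≫ a' := h₁.isPushout.inl_desc _ _ _
  have hkb : b₁ ≫ k = m ≫ b := h₁.isPushout.inr_desc _ _ _
  have := h.closed_t
  have := h₁.closed_t
  obtain ⟨pa, pb, pl⟩ := h.gluedBy.cartesian h₁.gluedBy (k := k.left) (sqn.map (Over.forget S))
    (sqm.map (Over.forget S)) (congrArg (fun c => c.left) hka) (congrArg (fun c => c.left) hkb)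
  have hk : π₁ ≫ v'.hom = (yon S).map k ≫ π := by
    refine hom_ext_of_isPushout h₁.isPushout Y'.property.diag ?_ ?_
    · rw [← reassoc_of% sqU'.w, show iU'.hom ≫ v'.hom = u'.hom ≫ f'.hom from
          congrArg (fun c => c.hom) hv'₂, reassoc_of% hcu, sqX'.w, ← Functor.map_comp_assoc (yon S) a₁',
        hka]
      simp only [Functor.map_comp, Category.assoc]
    · rw [← reassoc_of% sqV.w, show iV.hom ≫ v'.hom = v.hom ≫ t'.hom from
          congrArg (fun c => c.hom) hv'₁, reassoc_of% hm, sqY.w, ← Functor.map_comp_assoc (yon S) b₁,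
        hkb, Functor.map_comp_assoc]
  exact ⟨⟨A, A', B, P, A₁, A₁', B₁, P₁, j, a, a', b, j₁, a₁, a₁', b₁, n, l ≫ ω₁, m, k, p, q, π,
    p₁, q₁, π₁, h, h₁, hp, hps, hq, hqs, hπ, hπs, hp₁, hp₁s, hq₁, hq₁s, hπ₁, hπ₁s, sqX', sqY,
    sqU', sqV, sqn, sqm, IsPullback.of_map_of_faithful (Over.forget S) pa,
    IsPullback.of_map_of_faithful (Over.forget S) pb, pl, hm, hcu, hk⟩⟩

/-- Maps of pushouts are cartesian. -/
theorem MapChart.isPullback {X' Y Y' U' V V' : Sp S} {f' : X' ⟶ Y'} {t' : Y ⟶ Y'} {v : V ⟶ Y}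
    {u' : U' ⟶ X'} {iV : V ⟶ V'} {iU' : U' ⟶ V'} {v' : V' ⟶ Y'}
    (c : MapChart f' t' v u' iV iU' v') (w₁ : iV ≫ v' = v ≫ t') (w₂ : iU' ≫ v' = u' ≫ f') :
    IsPullback iV v v' t' ∧ IsPullback iU' u' v' f' := by
  haveI := isLocallySurjective_of_etale c.π₁_etale c.π₁_surjective
  refine ⟨isPullback_local c.π₁ w₁ c.sqV ?_, isPullback_local c.π₁ w₂ c.sqU' ?_⟩
  · rw [c.comm_v, c.comm_k]
    exact (isPullback_yon c.sqm'.flip).paste_vert c.sqY.flip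
  · rw [c.comm_u, c.comm_k]
    exact (isPullback_yon c.sqn'.flip).paste_vert c.sqX'.flip

end Groth.Agent.Lib.AffThick.Pushout
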