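import Mathlib.AlgebraicGeometry.Morphisms.SmoothFiber
import Mathlib.AlgebraicGeometry.Morphisms.Etale
import Groth.Agent.Lib.GrpSch.UnramifiedFibre

/-!
# Fibres over the points of a closed subscheme
-/

set_option autoImplicit false

universe u

open CategoryTheory CategoryTheory.Limits AlgebraicGeometry

namespace Groth.Agent.Lib.AffThick.Pushout

variable {X X' P P' : Scheme.{u}} {a : X ⟶ P} [IsClosedImmersion a] {f : X' ⟶ X}
  {a' : X' ⟶ P'} {h : P' ⟶ P}

set_option backward.isDefEq.respectTransparency false in
/-- A fibre can be computed after base change along a closed immersion. -/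
theorem property_fiber (Q : MorphismProperty Scheme.{u}) [Q.IsStableUnderBaseChange]
    (pa : IsPullback f a' a h) (hf : Q f) (x : X) : Q (h.fiberToSpecResidueField (a x)) := by
  have : IsIso (a.residueFieldMap x) := by
    rw [ConcreteCategory.isIso_iff_bijective]
    refine ⟨RingHom.injective _, fun z => ?_⟩
    obtain ⟨w, rfl⟩ := X.residue_surjective x z
    obtain ⟨v, rfl⟩ := a.stalkMap_surjective x w
    exact ⟨P.residue _ v, congr($(Scheme.residue_residueFieldMap a x) v)⟩
  have sq := isPullback_fiberToSpecResidueField_of_isPullback pa.flip x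
  have : IsIso (pullback.map _ _ _ _ a' (Spec.map (a.residueFieldMap x)) a pa.flip.w.symm (by simp) :
      f.fiber x ⟶ h.fiber (a x)) := sq.isIso_fst_of_isIso
  have hf' : Q (f.fiberToSpecResidueField x) := MorphismProperty.pullback_snd (P := Q) f _ hf
  rw [(IsIso.eq_inv_comp _).mpr sq.w]
  exact (MorphismProperty.cancel_left_of_respectsIso Q _ _).mpr
    ((MorphismProperty.cancel_right_of_respectsIso Q _ _).mpr hf')

/-- Smoothness and etaleness are inherited from a surjective closed subscheme of the base. -/
theorem smooth_etale_of_thick [Surjective a] (pa : IsPullback f a' a h)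
    [LocallyOfFinitePresentation h] [Flat h] :
    (Smooth f → Smooth h) ∧ (Etale f → Etale h) := by
  refine ⟨fun hf => Smooth.of_smooth_fiberToSpecResidueField h fun w => ?_, fun hf => ?_⟩
  · obtain ⟨x, rfl⟩ := a.surjective w
    exact property_fiber @Smooth pa hf x
  · have : FormallyUnramified h := GrpSch.formallyUnramified_of_fibres h fun w => by
      obtain ⟨x, rfl⟩ := a.surjective w
      exact property_fiber @FormallyUnramified pa (inferInstance : FormallyUnramified f) x
    exact Etale.of_formallyUnramified_of_flat h

end Groth.Agent.Lib.AffThick.Pushout
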