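import Groth.Agent.Lib.Ferrand.TwoClosedRing
import Mathlib.LinearAlgebra.DirectSum.Finsupp
import Mathlib.RingTheory.TensorProduct.MvPolynomial

/-!
# Gluing properties along a Milnor square

`R → B` is surjective with kernel `J`, `R → C` is arbitrary, `J` maps injectively to `C` and its
image is an ideal of `C`.
-/

set_option autoImplicit false

universe u

open TensorProduct

namespace Groth.Agent.Lib.AffThick.Pushout.Ring

open Groth.Agent.Lib.Ferrand.TwoClosed (rTensor_ideal_injective mem_smul_ker)

variable {R : Type u} [CommRing R]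

/-- Linear injections of `S`-modules stay injective after tensoring with `M`. -/
theorem rTensor_injective_of_flat_baseChange {S : Type u} [CommRing S] [Algebra R S] {M : Type u}
    [AddCommGroup M] [Module R M] [Module.Flat S (S ⊗[R] M)] {N N' : Type u} [AddCommGroup N]
    [AddCommGroup N'] [Module R N] [Module S N] [IsScalarTower R S N] [Module R N'] [Module S N']
    [IsScalarTower R S N'] (g : N →ₗ[S] N') (hg : Function.Injective g) :
    Function.Injective ((g.restrictScalars R).rTensor M) := by
  let e := AlgebraTensorModule.cancelBaseChange R S S N M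
  let e' := AlgebraTensorModule.cancelBaseChange R S S N' M
  have h := Module.Flat.rTensor_preserves_injective_linearMap (M := S ⊗[R] M) g hg
  have key : ∀ x, (g.restrictScalars R).rTensor M (e x) = e' (g.rTensor (S ⊗[R] M) x) := by
    intro x
    induction x using TensorProduct.induction_on with
    | zero => simp
    | tmul n y =>
      induction y using TensorProduct.induction_on with
      | zero => simp
      | tmul a m => simp [e, e']
      | add y z hy hz => simp only [TensorProduct.tmul_add, map_add, hy, hz]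
    | add y z hy hz => simp only [map_add, hy, hz]
  intro x y hxy
  obtain ⟨x, rfl⟩ := e.surjective x
  obtain ⟨y, rfl⟩ := e.surjective y
  rw [key, key] at hxy
  rw [h (e'.injective hxy)]

variable {B C : Type u} [CommRing B] [CommRing C] [Algebra R B] [Algebra R C]
  {M : Type u} [AddCommGroup M] [Module R M]

/-- An ideal mapped isomorphically onto an ideal of `C` embeds after tensoring. -/
theorem rTensor_injective_of_bij [Module.Flat C (C ⊗[R] M)] (K : Ideal R) (N : Ideal C)
    (hKN : ∀ x ∈ K, algebraMap R C x ∈ N) (hinj : ∀ x ∈ K, algebraMap R C x = 0 → x = 0)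
    (hsurj : ∀ c ∈ N, ∃ x ∈ K, algebraMap R C x = c) :
    Function.Injective (K.subtype.rTensor M) := by
  let ψ : K →ₗ[R] N :=
    { toFun := fun x => ⟨algebraMap R C x.1, hKN _ x.2⟩
      map_add' := fun x y => Subtype.ext (map_add _ _ _)
      map_smul' := fun a x => Subtype.ext (by
        show algebraMap R C (a • x.1) = a • algebraMap R C x.1
        rw [smul_eq_mul, map_mul, Algebra.smul_def]) }
  have hψ : Function.Bijective ψ := by
    refine ⟨fun x y hxy => Subtype.ext (sub_eq_zero.mp (hinj _ (K.sub_mem x.2 y.2) ?_)),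
      fun ⟨c, hc⟩ => ?_⟩
    · rw [map_sub, sub_eq_zero]
      exact congrArg Subtype.val hxy
    · obtain ⟨a, ha, rfl⟩ := hsurj c hc
      exact ⟨⟨a, ha⟩, rfl⟩
  have hcomm : (Algebra.linearMap R C).rTensor M ∘ₗ K.subtype.rTensor M =
      (N.subtype.restrictScalars R).rTensor M ∘ₗ ψ.rTensor M := by
    rw [← LinearMap.rTensor_comp, ← LinearMap.rTensor_comp]
    congr 1
  refine Function.Injective.of_comp (f := (Algebra.linearMap R C).rTensor M) ?_
  rw [show ⇑((Algebra.linearMap R C).rTensor M) ∘ ⇑(K.subtype.rTensor M) =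
    ⇑((N.subtype.restrictScalars R).rTensor M) ∘ ⇑(ψ.rTensor M) from
      funext fun x => LinearMap.congr_fun hcomm x]
  exact (rTensor_ideal_injective N).comp (LinearEquiv.ofBijective ψ hψ |>.rTensor M).injective

/-- Injectivity after tensoring is checked on the steps of an exact sequence. -/
theorem rTensor_injective_of_exact {G L F Q Fq : Type u} [AddCommGroup G] [AddCommGroup L]
    [AddCommGroup F] [AddCommGroup Q] [AddCommGroup Fq] [Module R G] [Module R L] [Module R F]
    [Module R Q] [Module R Fq] {κ : G →ₗ[R] L} {c : L →ₗ[R] Q} (hex : Function.Exact κ c)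
    (hc : Function.Surjective c) {i : L →ₗ[R] F} {cF : F →ₗ[R] Fq} {j : Q →ₗ[R] Fq}
    (hcomm : j ∘ₗ c = cF ∘ₗ i) (hj : Function.Injective (j.rTensor M))
    (hκ : Function.Injective ((i ∘ₗ κ).rTensor M)) : Function.Injective (i.rTensor M) := by
  refine (injective_iff_map_eq_zero _).mpr fun y hy => ?_
  have h0 : c.rTensor M y = 0 := by
    refine hj ?_
    rw [map_zero, ← LinearMap.rTensor_comp_apply, hcomm, LinearMap.rTensor_comp_apply, hy, map_zero]
  obtain ⟨z, rfl⟩ := (rTensor_exact M hex hc y).mp h0
  rw [← LinearMap.rTensor_comp_apply] at hy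
  rw [hκ (hy.trans (map_zero _).symm), map_zero]

/-- Injectivity after tensoring descends along a surjection. -/
theorem rTensor_injective_of_cover {L F I N : Type u} [AddCommGroup L] [AddCommGroup F]
    [AddCommGroup I] [AddCommGroup N] [Module R L] [Module R F] [Module R I] [Module R N]
    {i : L →ₗ[R] F} {πL : L →ₗ[R] I} {π : F →ₗ[R] N} {ι : I →ₗ[R] N} (hπL : Function.Surjective πL)
    (hπ : Function.Surjective π) (hcomm : ι ∘ₗ πL = π ∘ₗ i) (hι : Function.Injective ι)
    (hker : ∀ x, π x = 0 → x ∈ LinearMap.range i) (hi : Function.Injective (i.rTensor M)) :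
    Function.Injective (ι.rTensor M) := by
  refine (injective_iff_map_eq_zero _).mpr fun x hx => ?_
  obtain ⟨y, rfl⟩ := LinearMap.rTensor_surjective M hπL x
  rw [← LinearMap.rTensor_comp_apply, hcomm, LinearMap.rTensor_comp_apply] at hx
  let K := LinearMap.ker (π ∘ₗ i)
  have hex : Function.Exact (i ∘ₗ K.subtype) π := fun x => by
    refine ⟨fun h => ?_, ?_⟩
    · obtain ⟨l, rfl⟩ := hker x h
      exact ⟨⟨l, h⟩, rfl⟩
    · rintro ⟨k, rfl⟩
      exact k.2
  obtain ⟨z, hz⟩ := (rTensor_exact M hex hπ _).mp hx
  rw [LinearMap.rTensor_comp_apply] at hz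
  rw [← hi hz, ← LinearMap.rTensor_comp_apply, show πL ∘ₗ K.subtype = 0 from LinearMap.ext fun k =>
    hι ((LinearMap.congr_fun hcomm k.1).trans (k.2.trans (map_zero ι).symm))]
  simp

/-- Tensoring finitely supported functions preserves injectivity. -/
theorem rTensor_mapRange_injective {N N' : Type u} [AddCommGroup N] [AddCommGroup N'] [Module R N]
    [Module R N'] (g : N →ₗ[R] N') (hg : Function.Injective (g.rTensor M)) (ι : Type u) :
    Function.Injective ((Finsupp.mapRange.linearMap g : (ι →₀ N) →ₗ[R] ι →₀ N').rTensor M) := by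
  classical
  have key : ∀ t, finsuppLeft R R N' M ι ((Finsupp.mapRange.linearMap g).rTensor M t) =
      Finsupp.mapRange.linearMap (g.rTensor M) (finsuppLeft R R N M ι t) := by
    intro t
    induction t using TensorProduct.induction_on with
    | zero => simp
    | tmul g m => ext x; simp [finsuppLeft_apply_tmul_apply]
    | add a b ha hb => simp only [map_add, ha, hb]
  intro a b hab
  refine (finsuppLeft R R N M ι).injective (Finsupp.mapRange_injective _ (map_zero _) hg ?_)
  have h := congrArg (finsuppLeft R R N' M ι) hab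
  rw [key, key] at h
  exact h

/-- Submodules of `B`-modules embed after tensoring. -/
theorem rTensor_subtype_injective (hB : Function.Surjective (algebraMap R B))
    [Module.Flat B (B ⊗[R] M)] {N : Type u} [AddCommGroup N] [Module R N] [Module B N]
    [IsScalarTower R B N] (N₀ : Submodule R N) : Function.Injective (N₀.subtype.rTensor M) := by
  let Nb : Submodule B N :=
    { N₀.toAddSubmonoid with
      smul_mem' := fun b x hx => by
        obtain ⟨r, rfl⟩ := hB b
        rw [algebraMap_smul]
        exact N₀.smul_mem r hx }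
  let e : N₀ →ₗ[R] Nb :=
    { toFun := fun x => ⟨x.1, x.2⟩
      map_add' := fun x y => rfl
      map_smul' := fun r x => rfl }
  let e' : Nb →ₗ[R] N₀ :=
    { toFun := fun x => ⟨x.1, x.2⟩
      map_add' := fun x y => rfl
      map_smul' := fun r x => rfl }
  have h := rTensor_injective_of_flat_baseChange (R := R) (S := B) (M := M) Nb.subtype
    Nb.injective_subtype
  rw [show N₀.subtype = (Nb.subtype.restrictScalars R) ∘ₗ e from rfl, LinearMap.rTensor_comp]
  refine h.comp (Function.LeftInverse.injective (g := e'.rTensor M) fun t => ?_)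
  rw [← LinearMap.rTensor_comp_apply, show e' ∘ₗ e = LinearMap.id from rfl, LinearMap.rTensor_id,
    LinearMap.id_apply]

/-- The abstract step of `rTensor_inclusion_injective`. -/
theorem rTensor_injective_of_resolution (hB : Function.Surjective (algebraMap R B))
    [Module.Flat B (B ⊗[R] M)] {G F Fq I N : Type u} [AddCommGroup G] [AddCommGroup F]
    [AddCommGroup Fq] [AddCommGroup I] [AddCommGroup N] [Module R G] [Module R F] [Module R Fq]
    [Module R I] [Module R N] [Module B Fq] [IsScalarTower R B Fq] {μ : G →ₗ[R] F}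
    {c : F →ₗ[R] Fq} {π : F →ₗ[R] N} {ι : I →ₗ[R] N} (hι : Function.Injective ι)
    (hπ : Function.Surjective π) (hex : Function.Exact μ c)
    (hμ : ∀ g, π (μ g) ∈ LinearMap.range ι) (hμi : Function.Injective (μ.rTensor M)) :
    Function.Injective (ι.rTensor M) := by
  let L : Submodule R F := (LinearMap.range ι).comap π
  have hπι : ∀ i, ∃ l : L, π l.1 = ι i := fun i => by
    obtain ⟨x, hx⟩ := hπ (ι i)
    exact ⟨⟨x, i, hx.symm⟩, hx⟩
  choose g hg using fun l : L => (LinearMap.mem_range.mp l.2)
  let πL : L →ₗ[R] I :=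
    { toFun := g
      map_add' := fun x y => hι (by rw [map_add, hg, hg, hg, Submodule.coe_add, map_add])
      map_smul' := fun r x => hι (by rw [map_smul, hg, hg, Submodule.coe_smul, map_smul]; rfl) }
  have hπL : Function.Surjective πL := fun i => by
    obtain ⟨l, hl⟩ := hπι i
    exact ⟨l, hι ((hg l).trans hl)⟩
  let κ : G →ₗ[R] L := LinearMap.codRestrict L μ hμ
  have hexL : Function.Exact κ (c ∘ₗ L.subtype).rangeRestrict := fun l => by
    refine ⟨fun hl => ?_, ?_⟩
    · obtain ⟨z, hz⟩ := (hex l.1).mp (congrArg Subtype.val hl)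
      exact ⟨z, Subtype.ext hz⟩
    · rintro ⟨z, rfl⟩
      exact Subtype.ext ((hex (μ z)).mpr ⟨z, rfl⟩)
  have hL : Function.Injective (L.subtype.rTensor M) :=
    rTensor_injective_of_exact hexL (LinearMap.surjective_rangeRestrict _) (cF := c)
      (j := (LinearMap.range (c ∘ₗ L.subtype)).subtype) (LinearMap.subtype_comp_codRestrict _ _ _)
      (rTensor_subtype_injective hB _) (by rwa [LinearMap.subtype_comp_codRestrict])
  refine rTensor_injective_of_cover hπL hπ (LinearMap.ext fun l => hg l) hι (fun x hx => ?_) hL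
  rw [Submodule.range_subtype]
  exact ⟨0, by rw [map_zero, hx]⟩

/-- Inclusions of ideals with quotient killed by `ker (R → B)` stay injective after tensoring. -/
theorem rTensor_inclusion_injective (hB : Function.Surjective (algebraMap R B))
    [Module.Flat B (B ⊗[R] M)]
    (hJ : Function.Injective ((RingHom.ker (algebraMap R B)).subtype.rTensor M))
    (I₀ J' : Ideal R) (hle : I₀ ≤ J') (hJJ' : RingHom.ker (algebraMap R B) * J' ≤ I₀) :
    Function.Injective ((Submodule.inclusion hle).rTensor M) := by
  classical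
  refine rTensor_injective_of_resolution hB (Submodule.inclusion_injective hle)
    (π := Finsupp.linearCombination R id)
    (μ := Finsupp.mapRange.linearMap (α := J') (RingHom.ker (algebraMap R B)).subtype)
    (c := Finsupp.mapRange.linearMap (Algebra.linearMap R B))
    (fun j => ⟨Finsupp.single j 1, by simp⟩) (fun l => ⟨fun hl => ?_, ?_⟩) (fun g => ?_)
    (rTensor_mapRange_injective _ hJ _)
  · have h0 : ∀ x, l x ∈ RingHom.ker (algebraMap R B) := fun x => by
      have := DFunLike.congr_fun hl x
      rw [RingHom.mem_ker]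
      simpa using this
    refine ⟨Finsupp.onFinset l.support (fun x => ⟨l x, h0 x⟩) (fun x hx => ?_),
      Finsupp.ext fun x => by simp⟩
    rw [Finsupp.mem_support_iff]
    exact fun h => hx (Subtype.ext h)
  · rintro ⟨g, rfl⟩
    exact Finsupp.ext fun x => by simp
  · induction g using Finsupp.induction_linear with
    | zero => simp
    | add a b ha hb => rw [map_add, map_add]; exact add_mem ha hb
    | single x j =>
      exact ⟨⟨j.1 * x.1, hJJ' (Ideal.mul_mem_mul j.2 x.2)⟩, Subtype.ext (by simp)⟩

variable (hB : Function.Surjective (algebraMap R B))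
  (hext : ∀ x, algebraMap R B x = 0 → algebraMap R C x = 0 → x = 0)
  (himg : ∀ (x : R) (c : C), algebraMap R B x = 0 →
    ∃ y, algebraMap R B y = 0 ∧ algebraMap R C y = algebraMap R C x * c)
include hB hext himg

/-- Flatness glues along a Milnor square. -/
theorem flat [Module.Flat B (B ⊗[R] M)] [Module.Flat C (C ⊗[R] M)] : Module.Flat R M := by
  let J := RingHom.ker (algebraMap R B)
  have hJN : ∀ c ∈ Ideal.span (algebraMap R C '' (J : Set R)),
      ∃ x ∈ J, algebraMap R C x = c := by
    intro c hc
    rw [Ideal.span] at hc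
    induction hc using Submodule.span_induction with
    | mem c hc => obtain ⟨x, hx, rfl⟩ := hc; exact ⟨x, hx, rfl⟩
    | zero => exact ⟨0, J.zero_mem, map_zero _⟩
    | add a b _ _ ha hb =>
      obtain ⟨x, hx, rfl⟩ := ha
      obtain ⟨y, hy, rfl⟩ := hb
      exact ⟨x + y, J.add_mem hx hy, map_add _ _ _⟩
    | smul a c _ hc =>
      obtain ⟨x, hx, rfl⟩ := hc
      obtain ⟨y, hy, hy'⟩ := himg x a hx
      exact ⟨y, hy, by rw [hy', smul_eq_mul, mul_comm]⟩
  have hJ : Function.Injective (J.subtype.rTensor M) :=
    rTensor_injective_of_bij J (Ideal.span (algebraMap R C '' (J : Set R)))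
      (fun x hx => Ideal.subset_span ⟨x, hx, rfl⟩)
      (fun x hx h => hext x hx h) hJN
  refine Module.Flat.iff_rTensor_injective'.mpr fun I => ?_
  let I' : Ideal B := I.map (algebraMap R B)
  let ψ : I →ₗ[R] I' :=
    { toFun := fun x => ⟨algebraMap R B x.1, Ideal.mem_map_of_mem _ x.2⟩
      map_add' := fun x y => Subtype.ext (map_add _ _ _)
      map_smul' := fun a x => Subtype.ext (by
        show algebraMap R B (a • x.1) = a • algebraMap R B x.1
        rw [smul_eq_mul, map_mul, Algebra.smul_def]) }
  have hψ : Function.Surjective ψ := fun ⟨b, hb⟩ => by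
    obtain ⟨a, ha, rfl⟩ := (Ideal.mem_map_iff_of_surjective _ hB).mp hb
    exact ⟨⟨a, ha⟩, rfl⟩
  let ι : ↥(I ⊓ J) →ₗ[R] I := Submodule.inclusion inf_le_left
  have hex : Function.Exact ι ψ := by
    intro x
    refine ⟨fun hx => ⟨⟨x.1, x.2, congrArg Subtype.val hx⟩, Subtype.ext rfl⟩, ?_⟩
    rintro ⟨y, rfl⟩
    exact Subtype.ext y.2.2
  let N : Ideal C := (I ⊓ J).map (algebraMap R C)
  let J' : Ideal R := J ⊓ N.comap (algebraMap R C)
  have hle : I ⊓ J ≤ J' := fun x hx => ⟨hx.2, Ideal.mem_map_of_mem _ hx⟩
  have hJJ' : J * J' ≤ I ⊓ J := Ideal.mul_le.mpr fun j hj x hx => by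
    suffices ∀ c ∈ N, ∀ j ∈ J, ∀ y ∈ J, algebraMap R C y = algebraMap R C j * c → y ∈ I ⊓ J from
      this _ hx.2 j hj _ (J.mul_mem_left _ hx.1) (map_mul _ _ _)
    intro c (hc : c ∈ Submodule.span C (algebraMap R C '' (↑(I ⊓ J) : Set R)))
    induction hc using Submodule.span_induction with
    | mem c hc =>
      obtain ⟨i, hi, rfl⟩ := hc
      intro j hj y hy h
      rw [sub_eq_zero.mp (hext (y - j * i)
        (by rw [map_sub, map_mul, RingHom.mem_ker.mp hy, RingHom.mem_ker.mp hj, zero_mul, sub_zero])
        (by rw [map_sub, h, map_mul, sub_self]))]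
      exact (I ⊓ J).mul_mem_left j hi
    | zero =>
      intro j _ y hy h
      rw [hext y hy (by rw [h, mul_zero])]
      exact zero_mem _
    | add a b ha' hb' ha hb =>
      intro j hj y hy h
      obtain ⟨y₁, hy₁, h₁⟩ := himg j a hj
      have := hb j hj (y - y₁) (J.sub_mem hy hy₁) (by rw [map_sub, h, h₁]; ring)
      exact sub_add_cancel y y₁ ▸ add_mem this (ha j hj y₁ hy₁ h₁)
    | smul a c hc' hc =>
      intro j hj y hy h
      obtain ⟨j', hj', h'⟩ := himg j a hj
      exact hc j' hj' y hy (by rw [h, h', smul_eq_mul]; ring)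
  have hJ'inj : Function.Injective (J'.subtype.rTensor M) :=
    rTensor_injective_of_bij J' N (fun x hx => hx.2) (fun x hx h => hext x hx.1 h) fun c hc => by
      obtain ⟨x, hx, rfl⟩ := hJN c (Ideal.span_mono (Set.image_mono fun _ hy => hy.2) hc)
      exact ⟨x, ⟨hx, hc⟩, rfl⟩
  have hcomm : (Algebra.linearMap R B).rTensor M ∘ₗ I.subtype.rTensor M =
      (I'.subtype.restrictScalars R).rTensor M ∘ₗ ψ.rTensor M := by
    rw [← LinearMap.rTensor_comp, ← LinearMap.rTensor_comp]
    congr 1
  refine (injective_iff_map_eq_zero _).mpr fun t ht => ?_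
  have h0 : ψ.rTensor M t = 0 := by
    refine rTensor_ideal_injective I' ?_
    rw [map_zero]
    exact (LinearMap.congr_fun hcomm t).symm.trans (by rw [LinearMap.comp_apply, ht, map_zero])
  obtain ⟨u, rfl⟩ := (rTensor_exact M hex hψ t).mp h0
  rw [← LinearMap.rTensor_comp_apply,
    show I.subtype ∘ₗ ι = J'.subtype ∘ₗ Submodule.inclusion hle from rfl,
    LinearMap.rTensor_comp_apply] at ht
  have h1 := hJ'inj (ht.trans (map_zero _).symm)
  rw [rTensor_inclusion_injective hB hJ _ _ hle hJJ' (h1.trans (map_zero _).symm), map_zero]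

/-- Finite presentation glues along a Milnor square for flat algebras of finite type. -/
theorem finitePresentation {D : Type u} [CommRing D] [Algebra R D] [Module.Flat R D]
    [Algebra.FiniteType R D] [Algebra.FinitePresentation B (B ⊗[R] D)]
    [Algebra.FinitePresentation C (C ⊗[R] D)] : Algebra.FinitePresentation R D := by
  classical
  obtain ⟨n, f, hf⟩ := Algebra.FiniteType.iff_quotient_mvPolynomial''.mp ‹Algebra.FiniteType R D›
  let P := MvPolynomial (Fin n) R
  let K := RingHom.ker f
  have gens : ∀ (S : Type u) [CommRing S] [Algebra R S] [Algebra.FinitePresentation S (S ⊗[R] D)],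
      ∃ s : Finset P, Ideal.span (s : Set P) ≤ K ∧ ∀ x ∈ K,
        Algebra.TensorProduct.includeRight (R := R) (A := S) x ∈
          (Ideal.span (s : Set P)).map (Algebra.TensorProduct.includeRight (R := R) (A := S)) := by
    intro S _ _ _
    let π : P →ₐ[R] S ⊗[R] P := Algebra.TensorProduct.includeRight
    let F : S ⊗[R] P →ₐ[S] S ⊗[R] D := Algebra.TensorProduct.map (AlgHom.id S S) f
    have hF : Function.Surjective F := fun x => by
      induction x using TensorProduct.induction_on with
      | zero => exact ⟨0, map_zero _⟩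
      | tmul a d => obtain ⟨p, rfl⟩ := hf d; exact ⟨a ⊗ₜ p, by simp [F]⟩
      | add x y hx hy =>
        obtain ⟨a, rfl⟩ := hx
        obtain ⟨b, rfl⟩ := hy
        exact ⟨a + b, map_add _ _ _⟩
    have hFP : Algebra.FinitePresentation S (S ⊗[R] P) := inferInstance
    have hk : RingHom.ker F = K.map π := Algebra.TensorProduct.lTensor_ker f hf
    have hfg : (Submodule.span (S ⊗[R] P) (π '' (K : Set P))).FG :=
      (show K.map π = Submodule.span (S ⊗[R] P) (π '' (K : Set P)) from rfl) ▸
        hk ▸ Algebra.FinitePresentation.ker_fG_of_surjective F hF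
    obtain ⟨s', hs', hspan⟩ := (Submodule.fg_span_iff_fg_span_finset_subset _).mp hfg
    choose! k hkK hkπ using fun y (hy : y ∈ π '' (K : Set P)) => hy
    refine ⟨s'.image k, Ideal.span_le.mpr fun x hx => ?_, fun x hx => ?_⟩
    · obtain ⟨y, hy, rfl⟩ := Finset.mem_image.mp (Finset.mem_coe.mp hx)
      exact hkK y (hs' hy)
    · rw [Ideal.map_span]
      have : π x ∈ Submodule.span (S ⊗[R] P) (s' : Set (S ⊗[R] P)) :=
        hspan ▸ Submodule.subset_span ⟨x, hx, rfl⟩
      refine Submodule.span_mono (fun y hy => ?_) this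
      exact ⟨k y, Finset.mem_coe.mpr (Finset.mem_image_of_mem k hy), hkπ y (hs' hy)⟩
  obtain ⟨s₁, hs₁, h₁⟩ := gens B
  obtain ⟨s₂, hs₂, h₂⟩ := gens C
  let J := (RingHom.ker (algebraMap R B)).map (algebraMap R P)
  have hsurj : Function.Surjective
      (Algebra.TensorProduct.includeRight : P →ₐ[R] B ⊗[R] P) := fun x => by
    induction x using TensorProduct.induction_on with
    | zero => exact ⟨0, map_zero _⟩
    | tmul a d =>
      obtain ⟨r, rfl⟩ := hB a
      exact ⟨r • d, by simp [Algebra.algebraMap_eq_smul_one, TensorProduct.smul_tmul]⟩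
    | add x y hx hy =>
      obtain ⟨a, rfl⟩ := hx
      obtain ⟨b, rfl⟩ := hy
      exact ⟨a + b, map_add _ _ _⟩
  have hK₁ : K ≤ Ideal.span (s₁ : Set P) ⊔ J * K := fun x hx => by
    obtain ⟨x₀, hx₀, hxx₀⟩ := (Ideal.mem_map_iff_of_surjective _ hsurj).mp (h₁ x hx)
    have := mem_smul_ker hB f hf (x := x - x₀) (RingHom.mem_ker.mp (K.sub_mem hx (hs₁ hx₀))) (by
      show (Algebra.TensorProduct.includeRight : P →ₐ[R] B ⊗[R] P) (x - x₀) = 0
      rw [map_sub, hxx₀, sub_self])
    exact Submodule.mem_sup.mpr ⟨x₀, hx₀, x - x₀, this, by ring⟩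
  have hK₂ : J * K ≤ Ideal.span (s₂ : Set P) := by
    let π := (MvPolynomial.map (algebraMap R C) : P →+* MvPolynomial (Fin n) C)
    have hπ : ∀ x ∈ K, π x ∈ (Ideal.span (s₂ : Set P)).map π := fun x hx => by
      have := Ideal.mem_map_of_mem
        (MvPolynomial.algebraTensorAlgEquiv (σ := Fin n) R C).toRingEquiv.toRingHom (h₂ x hx)
      rw [Ideal.map_span, Ideal.map_span, ← Set.image_comp] at this
      rw [Ideal.map_span]
      convert this using 3
      all_goals exact ((MvPolynomial.algebraTensorAlgEquiv_tmul R C 1 _).trans (one_smul _ _)).symm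
    have hJπ : ∀ y ∈ J, π y = 0 → y = 0 := fun y hy h => by
      ext m
      refine hext _ (MvPolynomial.mem_map_C_iff.mp hy m) ?_
      rw [← MvPolynomial.coeff_map]
      simp [π] at h
      rw [h, MvPolynomial.coeff_zero]
    suffices ∀ j ∈ RingHom.ker (algebraMap R B), ∀ x ∈ K,
        algebraMap R P j * x ∈ Ideal.span (s₂ : Set P) by
      refine Ideal.mul_le.mpr fun a (ha : a ∈ Submodule.span P
        (algebraMap R P '' (RingHom.ker (algebraMap R B) : Set R))) x hx => ?_
      induction ha using Submodule.span_induction with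
      | mem a ha => obtain ⟨j, hj, rfl⟩ := ha; exact this j hj x hx
      | zero => simp
      | add a b ha' hb' ha hb => rw [add_mul]; exact add_mem ha hb
      | smul a b hb' hb => rw [smul_eq_mul, mul_assoc]; exact Ideal.mul_mem_left _ _ hb
    intro j hj x hx
    -- the image of `j * x` is the image of an element of `J * span s₂`
    have key : ∀ y ∈ (Ideal.span (s₂ : Set P)).map π, ∃ z ∈ Ideal.span (s₂ : Set P),
        z ∈ J ∧ π z = MvPolynomial.C (algebraMap R C j) * y := by
      intro y (hy' : y ∈ Submodule.span (MvPolynomial (Fin n) C)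
        (π '' (↑(Ideal.span (s₂ : Set P)) : Set P)))
      suffices ∀ j ∈ RingHom.ker (algebraMap R B), ∃ z ∈ Ideal.span (s₂ : Set P),
          z ∈ J ∧ π z = MvPolynomial.C (algebraMap R C j) * y from this j hj
      induction hy' using Submodule.span_induction with
      | mem y hy =>
        obtain ⟨z, hz, rfl⟩ := hy
        intro j hj
        exact ⟨MvPolynomial.C j * z, Ideal.mul_mem_left _ _ hz,
          Ideal.mul_mem_right _ _ (Ideal.mem_map_of_mem _ hj), by simp [π]⟩
      | zero => exact fun _ _ => ⟨0, zero_mem _, zero_mem _, by simp⟩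
      | add a b ha' hb' ha hb =>
        intro j hj
        obtain ⟨z, hz, hzJ, hz'⟩ := ha j hj
        obtain ⟨w, hw, hwJ, hw'⟩ := hb j hj
        exact ⟨z + w, add_mem hz hw, add_mem hzJ hwJ, by rw [map_add, hz', hw', mul_add]⟩
      | smul a b hb' hb =>
        intro j hj
        induction a using MvPolynomial.induction_on' with
        | monomial m c =>
          obtain ⟨j', hj', h'⟩ := himg j c hj
          obtain ⟨z, hz, hzJ, hz'⟩ := hb j' hj'
          refine ⟨MvPolynomial.monomial m 1 * z, Ideal.mul_mem_left _ _ hz,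
            Ideal.mul_mem_left _ _ hzJ, ?_⟩
          rw [map_mul, hz', h', smul_eq_mul, ← mul_assoc, ← mul_assoc]
          congr 1
          rw [show π (MvPolynomial.monomial m 1) = MvPolynomial.monomial m 1 by simp [π],
            mul_comm, MvPolynomial.C_mul_monomial, MvPolynomial.C_mul_monomial, mul_one]
        | add p q hp hq =>
          obtain ⟨z, hz, hzJ, hz'⟩ := hp
          obtain ⟨w, hw, hwJ, hw'⟩ := hq
          exact ⟨z + w, add_mem hz hw, add_mem hzJ hwJ,
            by rw [map_add, hz', hw', smul_eq_mul, smul_eq_mul, smul_eq_mul]; ring⟩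
    obtain ⟨z, hz, hzJ, hz'⟩ := key _ (hπ x hx)
    have : algebraMap R P j * x - z = 0 := hJπ _
      (sub_mem (Ideal.mul_mem_right _ _ (Ideal.mem_map_of_mem _ hj)) hzJ)
      (by rw [map_sub, map_mul, hz', MvPolynomial.algebraMap_eq]; show MvPolynomial.map _ _ * π x - _ = 0; rw [MvPolynomial.map_C, sub_self])
    exact sub_eq_zero.mp this ▸ hz
  refine Algebra.FinitePresentation.of_surjective (f := f) hf ⟨s₁ ∪ s₂, le_antisymm ?_ ?_⟩
  · rw [Finset.coe_union, Ideal.span_union]
    exact sup_le hs₁ hs₂
  · rw [Finset.coe_union, Ideal.span_union]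
    exact hK₁.trans (sup_le_sup_left hK₂ _)

end Groth.Agent.Lib.AffThick.Pushout.Ring
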