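import Groth.Agent.Lib.AffThick.Pushout.Sq
import Groth.Agent.Lib.AffThick.Pushout.Ring
import Groth.Agent.Lib.Ferrand.TwoClosed
import Groth.Agent.Lib.Ferrand.Cartesian

/-!
# Properties of cartesian maps of pushouts along thickenings
-/

set_option autoImplicit false

universe u

open CategoryTheory CategoryTheory.Limits AlgebraicGeometry
open Groth.Agent.Lib TensorProduct

namespace Groth.Agent.Lib.AffThick.Pushout

section RingHom

variable {R B A' A D DB DC : CommRingCat.{u}} {r : R ⟶ B} {s : R ⟶ A'} {q : B ⟶ A} {p : A' ⟶ A}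
  {κ : R ⟶ D} {δ : B ⟶ DB} {γ : A' ⟶ DC} {r₁ : D ⟶ DB} {s₁ : D ⟶ DC}
  (h : Ferrand.IsSq r.hom s.hom q.hom p.hom)
  (hB : IsPushout r κ δ r₁) (hC : IsPushout s κ γ s₁)

include h hB hC

theorem flat_hom (h₁ : δ.hom.Flat) (h₂ : γ.hom.Flat) : κ.hom.Flat := by
  letI := r.hom.toAlgebra
  letI := s.hom.toAlgebra
  letI := κ.hom.toAlgebra
  letI := δ.hom.toAlgebra
  letI := γ.hom.toAlgebra
  have : Module.Flat B DB := h₁
  have : Module.Flat A' DC := h₂
  obtain ⟨e₁⟩ := Ferrand.TwoClosed.exists_algEquiv hB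
  obtain ⟨e₂⟩ := Ferrand.TwoClosed.exists_algEquiv hC
  have : Module.Flat B (B ⊗[R] D) := Module.Flat.of_linearEquiv e₁.toLinearEquiv
  have : Module.Flat A' (A' ⊗[R] D) := Module.Flat.of_linearEquiv e₂.toLinearEquiv
  exact (Ring.flat (B := B) (C := A') h.surjective_left
    (fun x h₁ h₂ => h.ext x 0 (h₁.trans (map_zero r.hom).symm) (h₂.trans (map_zero s.hom).symm))
    (fun x c hx => by
      obtain ⟨y, hy, hy'⟩ := h.exists_of_mem_ker (a := s.hom x * c)
        (by rw [map_mul, ← h.comm, show r.hom x = 0 from hx, map_zero, zero_mul])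
      exact ⟨y, hy, hy'⟩) : Module.Flat R D)

theorem finitePresentation_hom (hfl : κ.hom.Flat) (hft : κ.hom.FiniteType)
    (h₁ : δ.hom.FinitePresentation) (h₂ : γ.hom.FinitePresentation) :
    κ.hom.FinitePresentation := by
  letI := r.hom.toAlgebra
  letI := s.hom.toAlgebra
  letI := κ.hom.toAlgebra
  letI := δ.hom.toAlgebra
  letI := γ.hom.toAlgebra
  have : Module.Flat R D := hfl
  have : Algebra.FiniteType R D := hft
  have : Algebra.FinitePresentation B DB := h₁
  have : Algebra.FinitePresentation A' DC := h₂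
  obtain ⟨e₁⟩ := Ferrand.TwoClosed.exists_algEquiv hB
  obtain ⟨e₂⟩ := Ferrand.TwoClosed.exists_algEquiv hC
  have : Algebra.FinitePresentation B (B ⊗[R] D) := Algebra.FinitePresentation.equiv e₁.symm
  have : Algebra.FinitePresentation A' (A' ⊗[R] D) := Algebra.FinitePresentation.equiv e₂.symm
  exact (Ring.finitePresentation (B := B) (C := A') h.surjective_left
    (fun x h₁ h₂ => h.ext x 0 (h₁.trans (map_zero r.hom).symm) (h₂.trans (map_zero s.hom).symm))
    (fun x c hx => by
      obtain ⟨y, hy, hy'⟩ := h.exists_of_mem_ker (a := s.hom x * c)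
        (by rw [map_mul, ← h.comm, show r.hom x = 0 from hx, map_zero, zero_mul])
      exact ⟨y, hy, hy'⟩) : Algebra.FinitePresentation R D)

end RingHom

section Scheme

variable {S : Scheme.{u}} {X X' Y P X₁' Y₁ P₁ : Over S} {t : X ⟶ X'} {a : X ⟶ Y} {a' : X' ⟶ P}
  {b : Y ⟶ P} {n' : X₁' ⟶ X'} {a₁' : X₁' ⟶ P₁} {m : Y₁ ⟶ Y} {b₁ : Y₁ ⟶ P₁} {k : P₁ ⟶ P}

set_option backward.isDefEq.respectTransparency false in
/-- Flatness and finite presentation of a cartesian map of pushouts are read off on the pieces. -/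
theorem Sq.glue (h : Sq t a a' b) (pa : IsPullback n' a₁' a' k) (pb : IsPullback m b₁ b k) :
    (Flat n'.left → Flat m.left → Flat k.left) ∧
    (Flat k.left → LocallyOfFiniteType k.left → LocallyOfFinitePresentation n'.left →
      LocallyOfFinitePresentation m.left → LocallyOfFinitePresentation k.left) := by
  have := h.closed_t
  have qa := pa.map (Over.forget S)
  have qb := pb.map (Over.forget S)
  simp only [Over.forget_map] at qa qb
  have loc : ∀ p : P₁.left, ∃ (O : P.left.Opens) (O' : P₁.left.Opens) (_ : p ∈ O')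
      (e : O' ≤ k.left ⁻¹ᵁ O) (ea : a₁'.left ⁻¹ᵁ O' ≤ n'.left ⁻¹ᵁ (a'.left ⁻¹ᵁ O))
      (eb : b₁.left ⁻¹ᵁ O' ≤ m.left ⁻¹ᵁ (b.left ⁻¹ᵁ O)),
      (Flat n'.left → Flat m.left → Flat (k.left.resLE O O' e)) ∧
      (Flat k.left → LocallyOfFiniteType k.left → LocallyOfFinitePresentation n'.left →
        LocallyOfFinitePresentation m.left → LocallyOfFinitePresentation (k.left.resLE O O' e)) := by
    intro p
    obtain ⟨O, hO, hpO, -⟩ := exists_isAffineOpen_mem_and_subset (x := k.left p) (U := ⊤) trivial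
    obtain ⟨O', hO', hpO', hle'⟩ := exists_isAffineOpen_mem_and_subset
      (x := p) (U := k.left ⁻¹ᵁ O) hpO
    have e : O' ≤ k.left ⁻¹ᵁ O := hle'
    have ea : a₁'.left ⁻¹ᵁ O' ≤ n'.left ⁻¹ᵁ (a'.left ⁻¹ᵁ O) := by
      rw [← Scheme.Hom.comp_preimage, qa.w]
      exact fun x hx => e hx
    have eb : b₁.left ⁻¹ᵁ O' ≤ m.left ⁻¹ᵁ (b.left ⁻¹ᵁ O) := by
      rw [← Scheme.Hom.comp_preimage, qb.w]
      exact fun x hx => e hx
    have e₁ : t.left ⁻¹ᵁ (a'.left ⁻¹ᵁ O) ≤ a.left ⁻¹ᵁ (b.left ⁻¹ᵁ O) := by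
      rw [← Scheme.Hom.comp_preimage, ← Scheme.Hom.comp_preimage, h.scheme.w]
    have hsq := h.gluedBy.affSq_restrict O hO e₁
    have ra := Scheme.Hom.isPullback_resLE qa (US := O) (UT := O') (UX := a'.left ⁻¹ᵁ O) e le_rfl
      (inf_eq_right.mpr ea).symm
    have rb := Scheme.Hom.isPullback_resLE qb (US := O) (UT := O') (UX := b.left ⁻¹ᵁ O) e le_rfl
      (inf_eq_right.mpr eb).symm
    have : IsAffine O.toScheme := hO
    have : IsAffine O'.toScheme := hO'
    have := hsq.affX
    have := hsq.affY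
    have : IsAffine (a₁'.left ⁻¹ᵁ O').toScheme := by
      have := hsq.isAffineHom_left
      exact .of_isPullback ra.flip
    have : IsAffine (b₁.left ⁻¹ᵁ O').toScheme := by
      have := hsq.isClosedImmersion_right
      exact .of_isPullback rb.flip
    have res : ∀ (Q : MorphismProperty Scheme.{u}) [Q.IsStableUnderComposition] [Q.RespectsIso]
        [IsZariskiLocalAtSource Q] [IsZariskiLocalAtTarget Q] {A B : Scheme.{u}} (φ : A ⟶ B),
        Q φ → ∀ (U : B.Opens) (V : A.Opens) (e : V ≤ φ ⁻¹ᵁ U), Q (φ.resLE U V e) := by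
      intro Q _ _ _ _ A B φ hφ U V e
      exact IsZariskiLocalAtSource.resLE _ hφ
    refine ⟨O, O', hpO', e, ea, eb, fun hn hm => ?_, fun hk hft hn hm => ?_⟩
    · exact (HasRingHomProperty.iff_of_isAffine (P := @Flat)).mpr (flat_hom hsq.sq
        (isPushout_appTop_of_isPullback rb) (isPushout_appTop_of_isPullback ra)
        ((HasRingHomProperty.iff_of_isAffine (P := @Flat)).mp (res @Flat _ hm _ _ _))
        ((HasRingHomProperty.iff_of_isAffine (P := @Flat)).mp (res @Flat _ hn _ _ _)))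
    · exact (HasRingHomProperty.iff_of_isAffine (P := @LocallyOfFinitePresentation)).mpr
        (finitePresentation_hom hsq.sq
          (isPushout_appTop_of_isPullback rb) (isPushout_appTop_of_isPullback ra)
          ((HasRingHomProperty.iff_of_isAffine (P := @Flat)).mp (res @Flat _ hk _ _ _))
          ((HasRingHomProperty.iff_of_isAffine (P := @LocallyOfFiniteType)).mp (res @LocallyOfFiniteType _ hft _ _ _))
          ((HasRingHomProperty.iff_of_isAffine (P := @LocallyOfFinitePresentation)).mp (res @LocallyOfFinitePresentation _ hm _ _ _))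
          ((HasRingHomProperty.iff_of_isAffine (P := @LocallyOfFinitePresentation)).mp (res @LocallyOfFinitePresentation _ hn _ _ _)))
  choose O O' hp e ea eb hfl hfp using loc
  have hcov : ⨆ p, O' p = ⊤ :=
    eq_top_iff.mpr fun p _ => TopologicalSpace.Opens.mem_iSup.mpr ⟨p, hp p⟩
  refine ⟨fun hn hm => (IsZariskiLocalAtSource.iff_of_iSup_eq_top (P := @Flat) O' hcov).mpr
      fun p => ?_,
    fun hk hft hn hm => (IsZariskiLocalAtSource.iff_of_iSup_eq_top
      (P := @LocallyOfFinitePresentation) O' hcov).mpr fun p => ?_⟩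
  · rw [← Scheme.Hom.resLE_comp_ι k.left (e p)]
    have := hfl p hn hm
    infer_instance
  · rw [← Scheme.Hom.resLE_comp_ι k.left (e p)]
    have := hfp p hk hft hn hm
    infer_instance

end Scheme

end Groth.Agent.Lib.AffThick.Pushout
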