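import Groth.Agent.Lib.AffThick.Pushout.Cartesian

/-!
# Properties of maps of pushouts are read off on charts
-/

set_option autoImplicit false

universe u

open CategoryTheory CategoryTheory.Limits AlgebraicGeometry
open AlgSp Groth.Agent.Lib.AlgSpace

namespace Groth.Agent.Lib.AffThick.Pushout.MapChart

variable {S : Scheme.{u}} {X' Y Y' U' V V' : Sp S} {f' : X' ⟶ Y'} {t' : Y ⟶ Y'} {v : V ⟶ Y}
  {u' : U' ⟶ X'} {iV : V ⟶ V'} {iU' : U' ⟶ V'} {v' : V' ⟶ Y'}
  (c : MapChart f' t' v u' iV iU' v') {P : MorphismProperty Scheme.{u}}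
  (hP : SourceDescent.Scheme.EtaleLocalST P)
include c hP

theorem locP_v' (hV : Representable (Limits.diag V')) (hY : Representable (Limits.diag Y')) :
    LocP P v' ↔ P c.k.left :=
  ⟨fun h => h c.π₁ c.π c.k c.π₁_etale c.π_etale c.comm_k,
    AlgSpMor.LocP.locP_of_chart hP hV hY c.π₁_etale c.π₁_surjective c.π_etale c.comm_k⟩

theorem locP_v (hV : Representable (Limits.diag V)) (hY : Representable (Limits.diag Y)) :
    LocP P v ↔ P c.m.left :=
  ⟨fun h => h c.p₁ c.p c.m c.p₁_etale c.p_etale c.comm_v,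
    AlgSpMor.LocP.locP_of_chart hP hV hY c.p₁_etale c.p₁_surjective c.p_etale c.comm_v⟩

theorem locP_u' (hU : Representable (Limits.diag U')) (hX : Representable (Limits.diag X')) :
    LocP P u' ↔ P c.n'.left :=
  ⟨fun h => h c.q₁ c.q c.n' c.q₁_etale c.q_etale c.comm_u,
    AlgSpMor.LocP.locP_of_chart hP hU hX c.q₁_etale c.q₁_surjective c.q_etale c.comm_u⟩

omit hP in
theorem of_k [P.IsStableUnderBaseChange] (h : P c.k.left) : P c.m.left ∧ P c.n'.left :=
  ⟨MorphismProperty.of_isPullback (c.sqm'.map (Over.forget S)).flip h,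
    MorphismProperty.of_isPullback (c.sqn'.map (Over.forget S)).flip h⟩

end Groth.Agent.Lib.AffThick.Pushout.MapChart
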