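import Groth.Agent.Lib.Ferrand.BaseChange
import Groth.Agent.Lib.Ferrand.Cartesian
import Groth.Agent.Lib.AlgSpFormal.ThickTopo
import Groth.Agent.Lib.Lim.Thickening
import Groth.Agent.H95.TopInv.Main
import Mathlib.CategoryTheory.Limits.Over

/-!
# Pushouts of schemes along a thickening and an affine morphism
-/

set_option autoImplicit false
set_option linter.style.haveILetI false

universe u

open CategoryTheory CategoryTheory.Limits AlgebraicGeometry
open Groth.Agent.Lib Groth.Agent.H95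

namespace Groth.Agent.Lib.AffThick.Pushout

variable {S : Scheme.{u}}

/-- A pushout of schemes over `S` along a thickening and an affine morphism. -/
structure Sq {X X' Y P : Over S} (t : X ⟶ X') (a : X ⟶ Y) (a' : X' ⟶ P) (b : Y ⟶ P) : Prop where
  closed_t : IsClosedImmersion t.left
  surjective_t : Surjective t.left
  affine_a : IsAffineHom a.left
  isPushout : IsPushout t a a' b

section Gluing

variable {X X' Y : Scheme.{u}} (t : X ⟶ X') (a : X ⟶ Y) [IsClosedImmersion t] [Surjective t]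
  [IsAffineHom a]

/-- Affine opens of `Y` extend to pairs. -/
theorem exists_pair (y : Y) : ∃ k : Ferrand.AffPair t a, y ∈ k.V := by
  obtain ⟨V, hV, hy, -⟩ := exists_isAffineOpen_mem_and_subset (x := y) (U := ⊤) trivial
  have hh : IsHomeomorph t :=
    AlgSpFormal.ThickTopo.isHomeomorph_of_thick ⟨‹IsClosedImmersion t›, ‹Surjective t›⟩
  let U : X'.Opens := ⟨t '' (a ⁻¹ᵁ V : Set X), hh.isOpenMap _ (a ⁻¹ᵁ V).2⟩
  have e : t ⁻¹ᵁ U = a ⁻¹ᵁ V := TopologicalSpace.Opens.ext (Set.preimage_image_eq _ hh.bijective.1)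
  have : IsClosedImmersion (t ∣_ U) := IsZariskiLocalAtTarget.restrict ‹_› _
  have : Surjective (t ∣_ U) := IsZariskiLocalAtTarget.restrict ‹_› _
  have h1 : IsAffineOpen (t ⁻¹ᵁ U) := by rw [e]; exact hV.preimage a
  have : IsAffine (t ⁻¹ᵁ U).toScheme := h1
  exact ⟨⟨U, V, Lim.Thickening.isAffine_of_surjective (t ∣_ U), hV, e⟩, hy⟩

end Gluing

namespace Sq

variable {X X' Y P : Over S} {t : X ⟶ X'} {a : X ⟶ Y} {a' : X' ⟶ P} {b : Y ⟶ P}

theorem scheme (h : Sq t a a' b) : IsPushout t.left a.left a'.left b.left :=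
  h.isPushout.map (Over.forget S)

theorem w (h : Sq t a a' b) : t ≫ a' = a ≫ b := h.isPushout.w

theorem gluedBy (h : Sq t a a' b) :
    haveI := h.closed_t
    Ferrand.GluedBy t.left a.left a'.left b.left :=
  haveI := h.closed_t
  haveI := h.surjective_t
  haveI := h.affine_a
  Ferrand.GluedBy.of_isPushout (exists_pair t.left a.left) h.scheme

theorem closed_b (h : Sq t a a' b) : IsClosedImmersion b.left :=
  haveI := h.closed_t
  h.gluedBy.isClosedImmersion_right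

theorem affine_a' (h : Sq t a a' b) : IsAffineHom a'.left :=
  haveI := h.closed_t
  h.gluedBy.isAffineHom_left

theorem surjective_b (h : Sq t a a' b) : Surjective b.left := by
  have := h.closed_t
  have := h.surjective_t
  refine ⟨fun p => ?_⟩
  rcases h.gluedBy.surj p with ⟨x, rfl⟩ | ⟨y, rfl⟩
  · obtain ⟨z, rfl⟩ := t.left.surjective x
    exact ⟨a.left z, by rw [← Scheme.Hom.comp_apply, ← h.scheme.w, Scheme.Hom.comp_apply]⟩
  · exact ⟨y, rfl⟩

theorem thick_b (h : Sq t a a' b) : AlgSp.thick b.left := ⟨h.closed_b, h.surjective_b⟩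

theorem thick_t (h : Sq t a a' b) : AlgSp.thick t.left := ⟨h.closed_t, h.surjective_t⟩

theorem isPullback (h : Sq t a a' b) : IsPullback t a a' b :=
  haveI := h.closed_t
  IsPullback.of_map_of_faithful (Over.forget S) h.gluedBy.isPullback

/-- Pushouts along thickenings and affine morphisms commute with flat base change. -/
theorem baseChange (h : Sq t a a' b) {X₁ X₁' Y₁ P₁ : Over S} {t₁ : X₁ ⟶ X₁'} {a₁ : X₁ ⟶ Y₁}
    {a₁' : X₁' ⟶ P₁} {b₁ : Y₁ ⟶ P₁} (r : P₁ ⟶ P) [Flat r.left] {pX' : X₁' ⟶ X'} {pY : Y₁ ⟶ Y}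
    {pX : X₁ ⟶ X} (hX' : IsPullback pX' a₁' a' r) (hY : IsPullback pY b₁ b r)
    (hX : IsPullback pX t₁ t pX') (ha : a₁ ≫ pY = pX ≫ a) (hw : t₁ ≫ a₁' = a₁ ≫ b₁) :
    Sq t₁ a₁ a₁' b₁ := by
  have := h.closed_t
  have := h.surjective_t
  have := h.affine_a
  have hXa : IsPullback pX a₁ a pY := by
    have h₁ : IsPullback pX (a₁ ≫ b₁) (a ≫ b) r := by
      rw [← hw, ← h.w]
      exact hX.paste_vert hX'
    exact IsPullback.of_bot h₁ ha.symm hY
  refine ⟨MorphismProperty.of_isPullback (hX.map (Over.forget S)) h.closed_t,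
    MorphismProperty.of_isPullback (hX.map (Over.forget S)) h.surjective_t,
    MorphismProperty.of_isPullback (hXa.map (Over.forget S)) h.affine_a,
    IsPushout.of_map (Over.forget S) hw ?_⟩
  refine h.gluedBy.baseChange (gP := 𝟙 P₁.left) (𝟙 P.left) r.left ?_ (hX'.map (Over.forget S)) (hY.map (Over.forget S))
    (hX.map (Over.forget S)) (congrArg (fun k => k.left) ha) (congrArg (fun k => k.left) hw)
    (.inl inferInstance)
  exact IsPullback.of_vert_isIso ⟨(Category.comp_id _).trans (Category.id_comp _).symm⟩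

end Sq

/-- Pushouts along thickenings and affine morphisms exist. -/
theorem exists_sq {X X' Y : Over S} (t : X ⟶ X') (a : X ⟶ Y) (ht : AlgSp.thick t.left)
    (ha : IsAffineHom a.left) : ∃ (P : Over S) (a' : X' ⟶ P) (b : Y ⟶ P), Sq t a a' b := by
  have := ht.1
  have := ht.2
  obtain ⟨Q, α, β, hQ⟩ := Ferrand.exists_gluedBy (exists_pair t.left a.left)
  let π : Q ⟶ S := hQ.isPushout.desc X'.hom Y.hom ((Over.w t).trans (Over.w a).symm)
  exact ⟨Over.mk π, Over.homMk α (hQ.isPushout.inl_desc _ _ _),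
    Over.homMk β (hQ.isPushout.inr_desc _ _ _), ht.1, ht.2, ha,
    IsPushout.of_map (Over.forget S) (Over.OverMorphism.ext hQ.isPushout.w) hQ.isPushout⟩

/-- A morphism of schemes over `S` built from a morphism of the underlying schemes over a third. -/
theorem exists_over {A B C : Over S} (g : B ⟶ C) (k : A ⟶ C) {l : A.left ⟶ B.left}
    (h : l ≫ g.left = k.left) : ∃ l' : A ⟶ B, l'.left = l :=
  ⟨Over.homMk l (by rw [← Over.w g, reassoc_of% h, Over.w k]), rfl⟩

/-- Maps into an etale scheme extend uniquely along a thickening. -/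
theorem exists_hom_over {Y₀ Y U C : Over S} (j : Y₀ ⟶ Y) (hj : AlgSp.thick j.left) (f : U ⟶ C)
    [Etale f.left] (x : Y₀ ⟶ U) (c : Y ⟶ C) (w : j ≫ c = x ≫ f) :
    ∃ l : Y ⟶ U, j ≫ l = x ∧ l ≫ f = c := by
  have := hj.1
  have := hj.2
  obtain ⟨l, h₁, h₂⟩ := TopInv.exists_hom f.left j.left x.left c.left (congrArg (fun k => k.left) w)
  obtain ⟨l', rfl⟩ := exists_over f c h₂
  exact ⟨l', Over.OverMorphism.ext h₁, Over.OverMorphism.ext h₂⟩

theorem hom_ext_over {Y₀ Y U C : Over S} (j : Y₀ ⟶ Y) [Surjective j.left] (f : U ⟶ C) [Etale f.left]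
    {l l' : Y ⟶ U} (h₁ : j ≫ l = j ≫ l') (h₂ : l ≫ f = l' ≫ f) : l = l' :=
  Over.OverMorphism.ext (TopInv.hom_ext f.left j.left (congrArg (fun k => k.left) h₁)
    (congrArg (fun k => k.left) h₂))

/-- Two etale lifts of the same scheme are isomorphic. -/
theorem exists_iso_lift {X₁ X X' U U' : Over S} (t : X ⟶ X') (ht : AlgSp.thick t.left) {eX : X₁ ⟶ X}
    {j : X₁ ⟶ U} {e : U ⟶ X'} [Etale e.left] (hU : IsPullback eX j t e)
    {j' : X₁ ⟶ U'} {e' : U' ⟶ X'} [Etale e'.left] (hU' : IsPullback eX j' t e') :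
    ∃ φ : U ≅ U', j ≫ φ.hom = j' ∧ φ.hom ≫ e' = e := by
  have hj : AlgSp.thick j.left := MorphismProperty.of_isPullback (hU.map (Over.forget S)) ht
  have hj' : AlgSp.thick j'.left := MorphismProperty.of_isPullback (hU'.map (Over.forget S)) ht
  have := hj.2
  have := hj'.2
  obtain ⟨l, hl₁, hl₂⟩ := exists_hom_over j hj e' j' e (by rw [← hU.w, hU'.w])
  obtain ⟨m, hm₁, hm₂⟩ := exists_hom_over j' hj' e j e' (by rw [← hU.w, hU'.w])
  exact ⟨⟨l, m, hom_ext_over j e (by rw [reassoc_of% hl₁, hm₁, Category.comp_id])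
      (by rw [Category.assoc, hm₂, hl₂, Category.id_comp]),
    hom_ext_over j' e' (by rw [reassoc_of% hm₁, hl₁, Category.comp_id])
      (by rw [Category.assoc, hl₂, hm₂, Category.id_comp])⟩, hl₁, hl₂⟩

namespace Sq

variable {X X' Y P : Over S} {t : X ⟶ X'} {a : X ⟶ Y} {a' : X' ⟶ P} {b : Y ⟶ P}

/-- A pushout of schemes etale over the pieces is etale over the pushout, with cartesian squares. -/
theorem etale (h : Sq t a a' b) {X₁ X₁' Y₁ P₁ : Over S} {t₁ : X₁ ⟶ X₁'} {a₁ : X₁ ⟶ Y₁}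
    {a₁' : X₁' ⟶ P₁} {b₁ : Y₁ ⟶ P₁} (h₁ : Sq t₁ a₁ a₁' b₁) {eX : X₁ ⟶ X} {eY : Y₁ ⟶ Y}
    {eX' : X₁' ⟶ X'} [Etale eY.left] [Etale eX'.left] (hX : IsPullback eX a₁ a eY)
    (hX' : IsPullback eX t₁ t eX') (g : P₁ ⟶ P) (hgb : b₁ ≫ g = eY ≫ b)
    (hga : a₁' ≫ g = eX' ≫ a') :
    Etale g.left ∧ IsPullback eY b₁ b g ∧ IsPullback eX' a₁' a' g := by
  have := h.closed_b
  have := h.surjective_b
  obtain ⟨Pl, gl, jl, hgl, hsq⟩ := TopInv.exists_lift b.left eY.left
  let P₂ : Over S := Over.mk (gl ≫ P.hom)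
  let r : P₂ ⟶ P := Over.homMk gl rfl
  have hr : Etale r.left := hgl
  obtain ⟨b₂, hb₂⟩ := exists_over (A := Y₁) (B := P₂) r (eY ≫ b) (l := jl) hsq.w
  subst hb₂
  have hY₂ : IsPullback eY b₂ b r :=
    IsPullback.of_map_of_faithful (Over.forget S) hsq.flip
  have sqW := IsPullback.of_hasPullback a' r
  have he : Etale (pullback.fst a' r).left :=
    MorphismProperty.of_isPullback (P := @Etale) (sqW.map (Over.forget S)).flip hr
  obtain ⟨t₂, ht₂⟩ : ∃ t₂ : X₁ ⟶ pullback a' r, IsPullback eX t₂ t (pullback.fst a' r) ∧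
      t₂ ≫ pullback.snd a' r = a₁ ≫ b₂ := by
    have hw : (eX ≫ t) ≫ a' = (a₁ ≫ b₂) ≫ r := by
      rw [Category.assoc, h.w, ← Category.assoc, hX.w, Category.assoc, hY₂.w, Category.assoc]
    refine ⟨pullback.lift (eX ≫ t) (a₁ ≫ b₂) hw, ?_, pullback.lift_snd _ _ _⟩
    refine IsPullback.of_bot ?_ (pullback.lift_fst _ _ _).symm sqW
    rw [pullback.lift_snd, h.w]
    exact hX.paste_vert hY₂
  have := h.thick_t
  obtain ⟨φ, hφ₁, hφ₂⟩ := exists_iso_lift t h.thick_t hX' ht₂.1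
  have hX₂ : IsPullback eX' (φ.hom ≫ pullback.snd a' r) a' r :=
    sqW.of_iso φ.symm (Iso.refl _) (Iso.refl _) (Iso.refl _) (by simp [← hφ₂]) (by simp) (by simp)
      (by simp)
  have h₂ : Sq t₁ a₁ (φ.hom ≫ pullback.snd a' r) b₂ :=
    h.baseChange r hX₂ hY₂ hX' hX.w.symm (by rw [reassoc_of% hφ₁, ht₂.2])
  let ψ := h₁.isPushout.isoIsPushout _ _ h₂.isPushout
  have hψa : a₁' ≫ ψ.hom = φ.hom ≫ pullback.snd a' r := h₁.isPushout.inl_isoIsPushout_hom _ _ _
  have hψb : b₁ ≫ ψ.hom = b₂ := h₁.isPushout.inr_isoIsPushout_hom _ _ _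
  have hg : g = ψ.hom ≫ r := h₁.isPushout.hom_ext
    (by rw [hga, reassoc_of% hψa, hX₂.w, Category.assoc])
    (by rw [hgb, reassoc_of% hψb, hY₂.w])
  refine ⟨?_, hY₂.of_iso (Iso.refl _) (Iso.refl _) ψ.symm (Iso.refl _) ?_ ?_ ?_ ?_,
    hX₂.of_iso (Iso.refl _) (Iso.refl _) ψ.symm (Iso.refl _) ?_ ?_ ?_ ?_⟩
  · rw [hg, Over.comp_left]
    have : IsIso ψ.hom.left := inferInstanceAs (IsIso ((Over.forget S).map ψ.hom))
    infer_instance
  all_goals simp only [Iso.refl_hom, Iso.symm_hom, Category.comp_id, Category.id_comp, Category.assoc]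
  all_goals first
    | exact (Iso.comp_inv_eq ψ).2 hψb.symm
    | (rw [← Category.assoc, Iso.comp_inv_eq]; exact hψa.symm)
    | simp [hg]

end Sq

end Groth.Agent.Lib.AffThick.Pushout
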