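import Groth.Agent.Lib.AffThick.Pushout.Sq
import Groth.Agent.Lib.AffThick.Mor

/-!
# Pushouts of schemes along thickenings are pushouts among algebraic spaces
-/

set_option autoImplicit false
set_option linter.style.haveILetI false

universe u

open CategoryTheory CategoryTheory.Limits AlgebraicGeometry
open AlgSp Groth.Agent.Lib.AlgSpace

namespace Groth.Agent.Lib.AffThick.Pushout

variable {S : Scheme.{u}}

/-- An etale surjective morphism of schemes gives an epimorphism of sheaves. -/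
theorem epi_map {A B : Over S} (r : A ⟶ B) (hr : Etale r.left) (hs : Surjective r.left) :
    Epi ((yon S).map r) :=
  haveI : Sheaf.IsLocallySurjective ((yon S).map r) :=
    isLocallySurjective_of_etale ((repWith_yon_map_iff _ _).2 hr) ((repWith_yon_map_iff _ _).2 hs)
  (Sheaf.isLocallySurjective_iff_epi' (Type (u + 1)) _).1 inferInstance

/-- A representable etale surjective morphism is an epimorphism. -/
theorem epi_of_etale {F G : Sp S} {f : F ⟶ G} (he : RepWith @Etale f) (hs : RepWith @Surjective f) :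
    Epi f :=
  haveI := isLocallySurjective_of_etale he hs
  (Sheaf.isLocallySurjective_iff_epi' (Type (u + 1)) f).1 inferInstance

variable {X X' Y P : Over S} {t : X ⟶ X'} {a : X ⟶ Y} {a' : X' ⟶ P} {b : Y ⟶ P}

/-- Maps to an algebraic space out of a pushout are determined by their restrictions. -/
theorem hom_ext_of_isPushout (h : IsPushout t a a' b) {T : Sp S}
    (hT : Representable (Limits.diag T)) {c d : (yon S).obj P ⟶ T}
    (h₁ : (yon S).map a' ≫ c = (yon S).map a' ≫ d)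
    (h₂ : (yon S).map b ≫ c = (yon S).map b ≫ d) : c = d := by
  obtain ⟨Q, q₁, q₂, sq⟩ := exists_isPullback_yon hT c d
  obtain ⟨u, hu⟩ := (yon S).map_surjective (sq.lift ((yon S).map a') ((yon S).map a') h₁)
  obtain ⟨v, hv⟩ := (yon S).map_surjective (sq.lift ((yon S).map b) ((yon S).map b) h₂)
  have u₁ : u ≫ q₁ = a' := (yon S).map_injective (by rw [Functor.map_comp, hu, sq.lift_fst])
  have u₂ : u ≫ q₂ = a' := (yon S).map_injective (by rw [Functor.map_comp, hu, sq.lift_snd])
  have v₁ : v ≫ q₁ = b := (yon S).map_injective (by rw [Functor.map_comp, hv, sq.lift_fst])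
  have v₂ : v ≫ q₂ = b := (yon S).map_injective (by rw [Functor.map_comp, hv, sq.lift_snd])
  have huv : t ≫ u = a ≫ v := (yon S).map_injective (sq.hom_ext
    (by rw [← Functor.map_comp, ← Functor.map_comp, Category.assoc, Category.assoc, u₁, v₁, h.w])
    (by rw [← Functor.map_comp, ← Functor.map_comp, Category.assoc, Category.assoc, u₂, v₂, h.w]))
  have e₁ : h.desc u v huv ≫ q₁ = 𝟙 P := h.hom_ext
    (by rw [h.inl_desc_assoc, u₁, Category.comp_id]) (by rw [h.inr_desc_assoc, v₁, Category.comp_id])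
  have e₂ : h.desc u v huv ≫ q₂ = 𝟙 P := h.hom_ext
    (by rw [h.inl_desc_assoc, u₂, Category.comp_id]) (by rw [h.inr_desc_assoc, v₂, Category.comp_id])
  calc c = (yon S).map (h.desc u v huv ≫ q₁) ≫ c := by
        rw [e₁, CategoryTheory.Functor.map_id, Category.id_comp]
    _ = (yon S).map (h.desc u v huv ≫ q₂) ≫ d := by
        rw [Functor.map_comp_assoc, Functor.map_comp_assoc, sq.w]
    _ = d := by rw [e₂, CategoryTheory.Functor.map_id, Category.id_comp]

/-- A flat morphism to a pushout pulls it back to a pushout. -/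
theorem Sq.exists_baseChange (h : Sq t a a' b) {P₁ : Over S} (r : P₁ ⟶ P) [Flat r.left] :
    ∃ (X₁ X₁' Y₁ : Over S) (t₁ : X₁ ⟶ X₁') (a₁ : X₁ ⟶ Y₁) (a₁' : X₁' ⟶ P₁) (b₁ : Y₁ ⟶ P₁)
      (pX : X₁ ⟶ X) (pX' : X₁' ⟶ X') (pY : Y₁ ⟶ Y), Sq t₁ a₁ a₁' b₁ ∧
      IsPullback pX' a₁' a' r ∧ IsPullback pY b₁ b r ∧ IsPullback pX t₁ t pX' ∧
      a₁ ≫ pY = pX ≫ a := by
  have sqX' := IsPullback.of_hasPullback a' r
  have sqY := IsPullback.of_hasPullback b r
  have sqX := IsPullback.of_hasPullback t (pullback.fst a' r)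
  have hw : (pullback.fst t (pullback.fst a' r) ≫ a) ≫ b =
      (pullback.snd t (pullback.fst a' r) ≫ pullback.snd a' r) ≫ r := by
    rw [Category.assoc, ← h.w, reassoc_of% sqX.w, sqX'.w, Category.assoc]
  exact ⟨_, _, _, _, pullback.lift _ _ hw, _, _, _, _, _,
    h.baseChange r sqX' sqY sqX (pullback.lift_fst _ _ _) (pullback.lift_snd _ _ _).symm,
    sqX', sqY, sqX, pullback.lift_fst _ _ _⟩

/-- Compatible maps to an algebraic space descend to the pushout. -/
theorem Sq.exists_desc (h : Sq t a a' b) {T : Sp S} (hT : IsAlgSpace T)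
    (g : (yon S).obj X' ⟶ T) (k : (yon S).obj Y ⟶ T)
    (w : (yon S).map t ≫ g = (yon S).map a ≫ k) :
    ∃ c : (yon S).obj P ⟶ T, (yon S).map a' ≫ c = g ∧ (yon S).map b ≫ c = k := by
  obtain ⟨W, p, hp, hps⟩ := hT.atlas
  obtain ⟨WY, mY, eY, sqWY⟩ := exists_isPullback_yon hT.diag p k
  have heY : Etale eY.left := repWith_property hp sqWY
  have heYs : Surjective eY.left := repWith_property hps sqWY
  obtain ⟨WX', mX', eX', sqWX'⟩ := exists_isPullback_yon hT.diag p g
  have heX' : Etale eX'.left := repWith_property hp sqWX'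
  have := h.closed_b
  have := h.surjective_b
  obtain ⟨Pl, gl, jl, hgl, hsq⟩ := H95.TopInv.exists_lift b.left eY.left
  let P₁ : Over S := Over.mk (gl ≫ P.hom)
  let r : P₁ ⟶ P := Over.homMk gl rfl
  have hr : Etale r.left := hgl
  obtain ⟨j, hj⟩ := exists_over (A := WY) (B := P₁) r (eY ≫ b) (l := jl) hsq.w
  subst hj
  have hY₁ : IsPullback eY j b r := IsPullback.of_map_of_faithful (Over.forget S) hsq.flip
  have hrs : Surjective r.left := by
    refine ⟨fun x => ?_⟩
    obtain ⟨y, rfl⟩ := b.left.surjective x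
    obtain ⟨z, rfl⟩ := eY.left.surjective y
    exact ⟨j.left z, by rw [← Scheme.Hom.comp_apply, ← Over.comp_left, ← hY₁.w, Over.comp_left,
      Scheme.Hom.comp_apply]⟩
  obtain ⟨X₁, X₁', Y₁, t₁, a₁, a₁', b₁, pX, pX', pY, h₁, hX'₁, hY₁', hX₁, ha₁⟩ :=
    h.exists_baseChange r
  obtain ⟨φ, hφ⟩ : ∃ φ : Y₁ ⟶ WY, φ ≫ eY = pY ∧ φ ≫ j = b₁ :=
    ⟨hY₁.lift pY b₁ hY₁'.w, hY₁.lift_fst _ _ _, hY₁.lift_snd _ _ _⟩
  have hcomp : (yon S).map (a₁ ≫ φ ≫ mY) ≫ p = (yon S).map (pX ≫ t) ≫ g := by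
    rw [Functor.map_comp, Functor.map_comp, Category.assoc, Category.assoc, sqWY.w,
      ← Functor.map_comp_assoc, ← Functor.map_comp_assoc, Category.assoc, hφ.1, ha₁, Functor.map_comp_assoc, ← w,
      Functor.map_comp_assoc]
  obtain ⟨x, hx⟩ := (yon S).map_surjective (sqWX'.lift _ _ hcomp)
  have hx₁ : x ≫ mX' = a₁ ≫ φ ≫ mY :=
    (yon S).map_injective (by rw [Functor.map_comp, hx, sqWX'.lift_fst])
  have hx₂ : x ≫ eX' = pX ≫ t :=
    (yon S).map_injective (by rw [Functor.map_comp, hx, sqWX'.lift_snd])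
  obtain ⟨l, hl₁, hl₂⟩ := exists_hom_over t₁ h₁.thick_t eX' x pX' (by rw [hx₂, hX₁.w])
  let m := h₁.isPushout.desc (l ≫ mX') (φ ≫ mY) (by rw [reassoc_of% hl₁, hx₁])
  have hma : (yon S).map a₁' ≫ (yon S).map m ≫ p = (yon S).map pX' ≫ g := by
    rw [← Functor.map_comp_assoc, h₁.isPushout.inl_desc, Functor.map_comp_assoc, sqWX'.w,
      ← Functor.map_comp_assoc, hl₂]
  have hmb : (yon S).map b₁ ≫ (yon S).map m ≫ p = (yon S).map pY ≫ k := by
    rw [← Functor.map_comp_assoc, h₁.isPushout.inr_desc, Functor.map_comp_assoc, sqWY.w,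
      ← Functor.map_comp_assoc, hφ.1]
  haveI := isLocallySurjective_of_etale ((repWith_yon_map_iff _ r).2 hr)
    ((repWith_yon_map_iff _ r).2 hrs)
  have sqR := IsPullback.of_hasPullback r r
  have : Etale (pullback.fst r r).left :=
    MorphismProperty.of_isPullback (P := @Etale) (sqR.map (Over.forget S)).flip hr
  obtain ⟨c, hc⟩ : ∃ c : (yon S).obj P ⟶ T, (yon S).map r ≫ c = (yon S).map m ≫ p := by
    refine Groth.Agent.Lib.AlgSpace.exists_desc _ (isPullback_yon sqR) _ ?_
    obtain ⟨X₂, X₂', Y₂, t₂, a₂, a₂', b₂, qX, qX', qY, h₂, hX'₂, hY₂, -, -⟩ :=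
      h₁.exists_baseChange (pullback.fst r r)
    refine hom_ext_of_isPushout h₂.isPushout hT.diag ?_ ?_
    · obtain ⟨z, hz₁, hz₂⟩ : ∃ z : X₂' ⟶ X₁', z ≫ pX' = qX' ≫ pX' ∧
          z ≫ a₁' = a₂' ≫ pullback.snd r r :=
        ⟨hX'₁.lift (qX' ≫ pX') (a₂' ≫ pullback.snd r r) (by
          rw [Category.assoc, hX'₁.w, reassoc_of% hX'₂.w, sqR.w, Category.assoc]),
          hX'₁.lift_fst _ _ _, hX'₁.lift_snd _ _ _⟩
      rw [← Functor.map_comp_assoc (yon S) a₂' (pullback.fst r r), ← hX'₂.w,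
        ← Functor.map_comp_assoc (yon S) a₂' (pullback.snd r r), ← hz₂,
        Functor.map_comp_assoc, Functor.map_comp_assoc, hma, ← Functor.map_comp_assoc, ← hz₁, Functor.map_comp_assoc]
    · obtain ⟨z, hz₁, hz₂⟩ : ∃ z : Y₂ ⟶ Y₁, z ≫ pY = qY ≫ pY ∧
          z ≫ b₁ = b₂ ≫ pullback.snd r r :=
        ⟨hY₁'.lift (qY ≫ pY) (b₂ ≫ pullback.snd r r) (by
          rw [Category.assoc, hY₁'.w, reassoc_of% hY₂.w, sqR.w, Category.assoc]),
          hY₁'.lift_fst _ _ _, hY₁'.lift_snd _ _ _⟩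
      rw [← Functor.map_comp_assoc (yon S) b₂ (pullback.fst r r), ← hY₂.w,
        ← Functor.map_comp_assoc (yon S) b₂ (pullback.snd r r), ← hz₂,
        Functor.map_comp_assoc, Functor.map_comp_assoc, hmb, ← Functor.map_comp_assoc, ← hz₁, Functor.map_comp_assoc]
  refine ⟨c, ?_, ?_⟩
  · have := epi_map pX' (MorphismProperty.of_isPullback (P := @Etale)
      (hX'₁.map (Over.forget S)).flip hr) (MorphismProperty.of_isPullback
      (hX'₁.map (Over.forget S)).flip hrs)
    rw [← cancel_epi ((yon S).map pX'), ← Functor.map_comp_assoc, hX'₁.w, Functor.map_comp_assoc,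
      hc, hma]
  · have := epi_map pY (MorphismProperty.of_isPullback (P := @Etale)
      (hY₁'.map (Over.forget S)).flip hr) (MorphismProperty.of_isPullback
      (hY₁'.map (Over.forget S)).flip hrs)
    rw [← cancel_epi ((yon S).map pY), ← Functor.map_comp_assoc, hY₁'.w, Functor.map_comp_assoc,
      hc, hmb]

/-- A pushout of schemes along a thickening is a pushout among algebraic spaces. -/
theorem Sq.isPushout_ofScheme (h : Sq t a a' b) :
    IsPushout ((ofScheme S).map t) ((ofScheme S).map a) ((ofScheme S).map a')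
      ((ofScheme S).map b) := by
  refine ⟨⟨by rw [← Functor.map_comp, ← Functor.map_comp, h.w]⟩,
    ⟨PushoutCocone.IsColimit.mk _ (fun s => ObjectProperty.homMk
      (h.exists_desc s.pt.property s.inl.hom s.inr.hom
        (congrArg (fun k => k.hom) s.condition)).choose) (fun s => ?_) (fun s => ?_)
      fun s m hm₁ hm₂ => ?_⟩⟩
  · exact ObjectProperty.hom_ext _ (h.exists_desc s.pt.property s.inl.hom s.inr.hom
      (congrArg (fun k => k.hom) s.condition)).choose_spec.1
  · exact ObjectProperty.hom_ext _ (h.exists_desc s.pt.property s.inl.hom s.inr.hom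
      (congrArg (fun k => k.hom) s.condition)).choose_spec.2
  · have hs := (h.exists_desc s.pt.property s.inl.hom s.inr.hom
      (congrArg (fun k => k.hom) s.condition)).choose_spec
    exact ObjectProperty.hom_ext _ (hom_ext_of_isPushout h.isPushout s.pt.property.diag
      ((congrArg (fun k => k.hom) hm₁).trans hs.1.symm)
      ((congrArg (fun k => k.hom) hm₂).trans hs.2.symm))

/-- An algebraic space with an atlas on which it is a pushout of schemes is a pushout. -/
theorem isPushout_of_chart {F F' G H : Space S} (i : F ⟶ F') (f : F ⟶ G) (f' : F' ⟶ H) (i' : G ⟶ H)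
    (w : i ≫ f' = f ≫ i') (h : Sq t a a' b) {π : (yon S).obj P ⟶ H.obj}
    (hπ : RepWith @Etale π) (hπs : RepWith @Surjective π) {eX : (yon S).obj X ⟶ F.obj}
    {eX' : (yon S).obj X' ⟶ F'.obj} {eY : (yon S).obj Y ⟶ G.obj}
    (sqX' : IsPullback eX' ((yon S).map a') f'.hom π) (sqY : IsPullback eY ((yon S).map b) i'.hom π)
    (hX₁ : eX ≫ i.hom = (yon S).map t ≫ eX') (hX₂ : eX ≫ f.hom = (yon S).map a ≫ eY) :
    IsPushout i f f' i' := by
  haveI := isLocallySurjective_of_etale hπ hπs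
  obtain ⟨R, r₁, r₂, sqR⟩ := exists_isPullback_yon H.property.diag π π
  have : Etale r₁.left := repWith_property hπ sqR.flip
  obtain ⟨X₂, X₂', Y₂, t₂, a₂, a₂', b₂, qX, qX', qY, h₂, hX'₂, hY₂, -, -⟩ := h.exists_baseChange r₁
  have := epi_of_etale (repWith_baseChange sqX'.flip hπ) (repWith_baseChange sqX'.flip hπs)
  have := epi_of_etale (repWith_baseChange sqY.flip hπ) (repWith_baseChange sqY.flip hπs)
  have := epi_of_etale hπ hπs
  have key : ∀ s : PushoutCocone i f, ∃ l : H ⟶ s.pt, f' ≫ l = s.inl ∧ i' ≫ l = s.inr := by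
    intro s
    obtain ⟨c, hc₁, hc₂⟩ := h.exists_desc s.pt.property (eX' ≫ s.inl.hom) (eY ≫ s.inr.hom) (by
      rw [← Category.assoc, ← hX₁, ← Category.assoc _ eY, ← hX₂, Category.assoc, Category.assoc]
      exact congrArg (eX ≫ ·) (congrArg (fun k => k.hom) s.condition))
    obtain ⟨l, hl⟩ := Groth.Agent.Lib.AlgSpace.exists_desc π sqR c (by
      refine hom_ext_of_isPushout h₂.isPushout s.pt.property.diag ?_ ?_
      · obtain ⟨z, hz⟩ := (yon S).map_surjective (sqX'.lift ((yon S).map qX' ≫ eX')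
          ((yon S).map (a₂' ≫ r₂)) (by
            rw [Category.assoc, sqX'.w, ← Functor.map_comp_assoc, hX'₂.w, Functor.map_comp_assoc,
              Functor.map_comp_assoc, sqR.w]))
        have hz₁ : (yon S).map z ≫ eX' = (yon S).map qX' ≫ eX' := by rw [hz, sqX'.lift_fst]
        have hz₂ : z ≫ a' = a₂' ≫ r₂ :=
          (yon S).map_injective (by rw [Functor.map_comp, hz, sqX'.lift_snd])
        rw [← Functor.map_comp_assoc, ← Functor.map_comp_assoc, ← hX'₂.w, ← hz₂,
          Functor.map_comp_assoc, Functor.map_comp_assoc, hc₁, reassoc_of% hz₁]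
      · obtain ⟨z, hz⟩ := (yon S).map_surjective (sqY.lift ((yon S).map qY ≫ eY)
          ((yon S).map (b₂ ≫ r₂)) (by
            rw [Category.assoc, sqY.w, ← Functor.map_comp_assoc, hY₂.w, Functor.map_comp_assoc,
              Functor.map_comp_assoc, sqR.w]))
        have hz₁ : (yon S).map z ≫ eY = (yon S).map qY ≫ eY := by rw [hz, sqY.lift_fst]
        have hz₂ : z ≫ b = b₂ ≫ r₂ :=
          (yon S).map_injective (by rw [Functor.map_comp, hz, sqY.lift_snd])
        rw [← Functor.map_comp_assoc, ← Functor.map_comp_assoc, ← hY₂.w, ← hz₂,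
          Functor.map_comp_assoc, Functor.map_comp_assoc, hc₂, reassoc_of% hz₁])
    refine ⟨ObjectProperty.homMk l, ObjectProperty.hom_ext _ ?_, ObjectProperty.hom_ext _ ?_⟩
    · change f'.hom ≫ l = s.inl.hom
      rw [← cancel_epi eX', reassoc_of% sqX'.w, hl, hc₁]
    · change i'.hom ≫ l = s.inr.hom
      rw [← cancel_epi eY, reassoc_of% sqY.w, hl, hc₂]
  choose l hl₁ hl₂ using key
  refine ⟨⟨w⟩, ⟨PushoutCocone.IsColimit.mk _ l hl₁ hl₂ fun s m hm₁ hm₂ => ObjectProperty.hom_ext _ ?_⟩⟩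
  rw [← cancel_epi π]
  have e₁ := congrArg (fun k => k.hom) (hm₁.trans (hl₁ s).symm)
  have e₂ := congrArg (fun k => k.hom) (hm₂.trans (hl₂ s).symm)
  refine hom_ext_of_isPushout h.isPushout s.pt.property.diag ?_ ?_
  · rw [← reassoc_of% sqX'.w, ← reassoc_of% sqX'.w]
    exact congrArg (eX' ≫ ·) e₁
  · rw [← reassoc_of% sqY.w, ← reassoc_of% sqY.w]
    exact congrArg (eY ≫ ·) e₂

end Groth.Agent.Lib.AffThick.Pushout
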